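import Mathlib
import Cfsg.Agent.QT.KFamA
import Cfsg.Agent.QT.KFamB
import Cfsg.Agent.QT.KFamC
import Cfsg.Agent.QT.KFamD

/-! # QT: facts on known simple groups -/

set_option autoImplicit false
open Cfsg

namespace Cfsg.Agent.QT

universe u

theorem kfam {K : Type u} [Group K] [Finite K] [IsSimpleGroup K] (hna : ¬ IsMulCommutative K)
    (h : IsKnownSimple' K) : KFam K := by
  rcases h with h | h | h | h | h | h | h | h | h | h
  · exfalso
    haveI : Fact (Nat.card K).Prime := ⟨h⟩
    haveI : IsCyclic K := isCyclic_of_prime_card (p := Nat.card K) rfl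
    exact hna IsCyclic.isMulCommutative
  · exact kfam_linear hna (Or.inl h)
  · exact kfam_linear hna (Or.inr (Or.inl h))
  · exact kfam_orth hna (Or.inl h)
  · exact kfam_linear hna (Or.inr (Or.inr h))
  · exact kfam_orth hna (Or.inr (Or.inl h))
  · exact kfam_orth hna (Or.inr (Or.inr (Or.inl h)))
  · exact kfam_orth hna (Or.inr (Or.inr (Or.inr h)))
  · exact kfam_exc hna h
  · exact kfam_spor hna h

end Cfsg.Agent.QT
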