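import Mathlib
import Cfsg.Agent.QT.XiA
import Cfsg.Agent.QT.CAmb
import Cfsg.Agent.QT.KFam
import Cfsg.Agent.Inv.KGroup
import Cfsg.Agent.Loc.TechSchreier

/-! # QT: a member of `Ξ(G, T)` is normal or lies in the closure of a component -/

set_option autoImplicit false
set_option linter.unusedSectionVars false
open Cfsg Subgroup
open scoped commutatorElement

namespace Cfsg.Agent.QT

open Cfsg.Agent.GT Cfsg.Agent.Loc Cfsg.Agent.Loc.Mss

universe u

variable {H : Type u} [Group H] [Finite H] {p : ℕ} {X T Φ : Subgroup H}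

namespace XiD

theorem comm_self (h : XiD p X T Φ) : ⁅X, T⁆ = X :=
  h.comm_eq le_rfl fun _ hs _ _ a _ => (a hs).elim

theorem le_ker (h : XiD p X T Φ) {Y : Type*} [Group Y] (f : H →* Y) {Z : Subgroup Y}
    (hZ : PRankLE p 1 Z) (hf : ∀ x ∈ X, f x ∈ Z) : X ≤ f.ker := fun x hx =>
  h.map_eq_one le_top le_top (f.comp (⊤ : Subgroup H).subtype) hZ (fun y hy => hf y hy)
    ⟨x, mem_top x⟩ hx

theorem le_cent_pCore (h : XiD p X T Φ) (hS : IsStronglyQuasithin H) (hO : pCore 2 H = ⊥) {r : ℕ}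
    (hr : r.Prime) (hne : r ≠ p) : X ≤ 𝐂[pCore r H] := by
  by_cases h2 : r = 2
  · rw [h2, hO, cent_bot]; exact le_top
  have := Fact.mk hr
  obtain ⟨φ, hφ⟩ := exists_hom_gl2 h2 (pCore r H) (isPGroup_pCore r) ((hS r hr h2).subgroup _)
  have h1 : X ≤ φ.ker := h.le_ker φ (sl2_oddCyc p h.hp h.h2) fun x hx => by
    have a1 : X ≤ (Matrix.GeneralLinearGroup.det.comp φ).ker := by
      rw [← h.comm_self]
      exact (commutator_mono le_top le_top).trans (Abelianization.commutator_subset_ker _)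
    exact a1 hx
  exact fun x hx => hφ x (h1 hx) (Nat.Coprime.coprime_dvd_left (X.orderOf_dvd_natCard hx)
    (h.coprime hr h2 hne))

/-- If `X` centralises the layer, it is normal. -/
theorem normal_of_cent (h : XiD p X T Φ) (hS : IsStronglyQuasithin H) (hO : pCore 2 H = ⊥)
    (hE : X ≤ 𝐂[layer H]) : X.Normal := by
  have := Fact.mk h.hp
  obtain ⟨φ, hφ⟩ := exists_hom_gl2 h.h2 (pCore p H) (isPGroup_pCore p)
    ((hS p h.hp h.h2).subgroup _)
  have h1 : X ≤ φ.ker := h.le_ker φ (Z := ⊤) (gl2_prank_self.subgroup _) fun _ _ => mem_top _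
  set D : Subgroup H := ⨆ r : {r : ℕ // r.Prime ∧ r ≠ p}, pCore r H with hD
  have hDn : D.Normal := normal_of_top (norm_iSup fun r => norm_normal _ _)
  have hEn : (layer H).Normal := layer_normal
  set C := φ.ker ⊓ 𝐂[layer H] ⊓ 𝐂[D] with hC
  have hCn : C.Normal := normal_of_top (norm_inf (norm_inf (norm_normal _ _)
    (norm_cent (norm_normal _ _))) (norm_cent (norm_normal _ _)))
  have hXC : X ≤ C := le_inf (le_inf h1 hE)
    (le_cent_iSup fun r => h.le_cent_pCore hS hO r.2.1 r.2.2)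
  have hrD : ∀ r : ℕ, r.Prime → r ≠ p → pCore r H ≤ D := fun r a b =>
    le_iSup (fun r : {r : ℕ // r.Prime ∧ r ≠ p} => pCore r H) ⟨r, a, b⟩
  have hF : ∀ g ∈ C, (orderOf g).Coprime p → g ∈ D := fun g hg hc => by
    have a1 : zpowers g ≤ fittingSubgroup H := by
      refine le_trans ?_ centralizer_genFitting_le_fitting
      refine cent_comm (genFitting_le (cent_comm (zpowers_le.2 hg.1.2))
        (fitting_le_iff.2 fun r hr => cent_comm (zpowers_le.2 ?_)))
      by_cases e : r = p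
      · exact e ▸ hφ g hg.1.1 hc
      · exact cent_anti (hrD r hr e) hg.2
    have a2 : Group.IsNilpotent (zpowers g) := FT.isNilpotent_of_le isNilpotent_fitting a1
    have a3 := mem_zpowers g
    rw [← fittingOf_eq_self_iff.2 a2, fittingOf_eq_iSup_pCoreOf] at a3
    refine (iSup_le fun r => ?_ : _ ≤ D) a3
    by_cases e : (r : ℕ) = p
    · rw [e, eq_bot_of_coprime (pg_core _) (pCoreOf_le _) (by rwa [Nat.card_zpowers])]
      exact bot_le
    · exact (le_pCore_of_le_fitting (pg_core _) ((pCoreOf_le _).trans a1)).trans (hrD r r.2 e)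
  have hcl : PCl p C :=
    pCl_of_res_le_cent ((res_le_iff.2 hF).trans (cent_comm inf_le_right))
  have hD2 : ∀ g ∈ X, orderOf g ≠ 2 := fun g hg e => by
    have a1 : D ≤ fittingSubgroup H := iSup_le fun r => pCore_le_fitting r.2.1
    have a2 := le_pCore_of_le_fitting (isPGroup_zpowers_of_orderOf_eq (p := 2) (k := 1) e) (zpowers_le.2
      (a1 (hF g (hXC hg) (e ▸ (Nat.coprime_primes Nat.prime_two h.hp).2 h.h2.symm))))
    rw [hO, le_bot_iff, zpowers_eq_bot] at a2
    simp [a2] at e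
  have hXp : IsPGroup p X := by
    obtain ⟨k, hk⟩ := h.card
    have a1 : (Nat.card Φ).Coprime 2 := by
      rw [Nat.coprime_comm, Nat.Prime.coprime_iff_not_dvd Nat.prime_two]
      intro a
      obtain ⟨g, hg⟩ := exists_prime_orderOf_dvd_card' 2 a
      exact hD2 g (h.le g.2) (by rw [Subgroup.orderOf_coe, hg])
    have a2 := (a1.pow_right k).dvd_of_dvd_mul_left hk
    have a3 : Nat.card X ∣ p ^ 3 := by
      rw [h.card_eq, pow_succ' p 2]
      exact Nat.mul_dvd_mul_right a2 _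
    obtain ⟨n, -, hn⟩ := (Nat.dvd_prime_pow h.hp).1 a3
    exact IsPGroup.of_card hn
  have hn : (pCoreOf p C).Normal := normal_of_top (norm_core (norm_normal _ _))
  exact h.normal_of_le (hS p h.hp h.h2) (pg_core C) (hcl X hXC hXp)

theorem le_of_index (h : XiD p X T Φ) {N : Subgroup H} (hN : N.index = 2) : X ≤ N := by
  rw [← h.res]
  exact res_le_of_pow fun x _ => ⟨1, sq_mem_of_index_two hN x⟩

theorem le_norm_comp (h : XiD p X T Φ) (hS : IsStronglyQuasithin H) {K : Subgroup H}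
    (hK : IsComponent K) : X ≤ 𝐍[K] := by
  rcases calC_normal_or hS (calC_of_isComponent hK) with a | a
  · exact norm_normal _ _
  · exact h.le_of_index a.1

/-- `X` induces inner automorphisms on each component. -/
theorem inner (h : XiD p X T Φ) (hS : IsStronglyQuasithin H) (hK : IsKGroup H)
    (hO : pCore 2 H = ⊥) {K : Subgroup H} (hc : IsComponent K) : X ≤ K ⊔ 𝐂[K] := by
  have hq := hc.isQuasisimple
  have := hq.2
  have hna : ¬ IsMulCommutative (K ⧸ center K) := hq.not_isMulCommutative_quotient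
  have hf := kfam hna (Inv.KG.known_quotient_center (Inv.KG.isKGroup_subgroup hK K) hq)
  have hX := h.le_norm_comp hS hc
  obtain ⟨f, hf'⟩ := exists_hom_out hc.commutator_eq (H := 𝐍[K]) le_rfl
  have key : ∀ B ≤ 𝐍[K], ⁅X, B⁆ = X → ∀ x : 𝐍[K], (x : H) ∈ X →
      f x ∈ _root_.commutator (Out (K ⧸ center K)) := fun B hB e x hx => by
    have a1 : X.subgroupOf 𝐍[K] ≤ ⁅X.subgroupOf 𝐍[K], B.subgroupOf 𝐍[K]⁆ := by
      rw [← map_subtype_le_iff, Subgroup.map_commutator, map_subgroupOf_eq_of_le hX,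
        map_subgroupOf_eq_of_le hB, e]
    have a2 := mem_map_of_mem f (a1 hx)
    rw [Subgroup.map_commutator] at a2
    exact commutator_mono le_top le_top a2
  by_cases hT : T ≤ 𝐍[K]
  · have a1 := hf.1 (calC_cover hS (calC_of_isComponent hc) hna (QuotientGroup.mk' _)
      (QuotientGroup.mk'_surjective _))
    exact fun x hx => hf' ⟨x, hX hx⟩ (h.map_eq_one hX hT f (a1.2 p h.hp h.h2)
      (key T hT h.comm_self) _ hx)
  · obtain ⟨a1, a2, a3⟩ := normal_or_aux hS hO (calC_of_isComponent hc) fun e => hT (e ▸ le_top)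
    have a4 := (hf.2 fun r hr h2 => prankLE_one_of_surjective _
      (QuotientGroup.mk'_surjective _) hr h2 (a3 r hr h2)).2
    have a5 := h.comm_eq (B := T ⊓ 𝐍[K]) inf_le_left fun s hs t ht b1 b2 => ⟨mul_mem hs ht,
      (mul_mem_iff_of_index_two a1).2 (iff_of_false (fun a => b1 ⟨hs, a⟩) fun a => b2 ⟨ht, a⟩)⟩
    refine fun x hx => hf' ⟨x, hX hx⟩ ?_
    have a6 := key _ inf_le_right a5 ⟨x, hX hx⟩ hx
    rwa [(_root_.commutator_eq_bot_iff _).2 a4, mem_bot] at a6

theorem inner_sup (h : XiD p X T Φ) (hS : IsStronglyQuasithin H) (hK : IsKGroup H)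
    (hO : pCore 2 H = ⊥) {s : Set (Subgroup H)} (hs : ∀ K ∈ s, IsComponent K) :
    X ≤ sSup s ⊔ 𝐂[sSup s] := by
  induction s, Set.toFinite s using Set.Finite.induction_on with
  | empty => rw [sSup_empty, cent_bot]; exact le_top.trans le_sup_right
  | @insert K s hKs _ ih =>
    have hc := hs K (Set.mem_insert _ _)
    have h1 := ih fun L hL => hs L (Set.mem_insert_of_mem _ hL)
    have h2 : sSup s ≤ 𝐂[K] := sSup_le fun L hL => comm_eq_bot_iff.1
      (((hs L (Set.mem_insert_of_mem _ hL)).eq_or_commutator_eq_bot hc).resolve_left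
        fun e => hKs (e ▸ hL))
    intro x hx
    obtain ⟨a, ha, c, hc', e⟩ := (mem_sup_norm (cent_le_norm _)).1 (h1 hx)
    obtain ⟨k, hk, d, hd, e'⟩ := (mem_sup_norm (cent_le_norm _)).1 (h.inner hS hK hO hc hx)
    rw [sSup_insert, cent_sup]
    have a1 : k⁻¹ * c ∈ 𝐂[K] ⊓ 𝐂[sSup s] := by
      refine ⟨?_, Subgroup.mul_mem _ (Subgroup.inv_mem _ (cent_comm h2 hk)) hc'⟩
      have a2 : k * a = a * k := mem_cent.1 (h2 ha) k hk
      have a3 : k⁻¹ * c = a⁻¹ * d := by
        rw [inv_mul_eq_iff_eq_mul, ← mul_left_cancel_iff (a := a), e, ← e', ← mul_assoc,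
          ← mul_assoc, ← a2]
        group
      exact a3 ▸ Subgroup.mul_mem _ (Subgroup.inv_mem _ (h2 ha)) hd
    have a4 := mul_mem (mem_sup_left (T := 𝐂[K] ⊓ 𝐂[sSup s]) (mul_mem
      (mem_sup_right (S := K) ha) (mem_sup_left hk))) (mem_sup_right a1)
    rwa [mul_assoc, mul_inv_cancel_left, e] at a4

/-- The main dichotomy. -/
theorem normal_or (h : XiD p X T Φ) (hS : IsStronglyQuasithin H) (hK : IsKGroup H)
    (hO : pCore 2 H = ⊥) : X.Normal ∨ ∃ K, IsComponent K ∧ X ≤ ncl T K := by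
  by_cases hE : X ≤ 𝐂[layer H]
  · exact Or.inl (h.normal_of_cent hS hO hE)
  obtain ⟨K, hc, hn⟩ : ∃ K, IsComponent K ∧ ¬ X ≤ 𝐂[K] := by
    by_contra! a
    exact hE (cent_comm (layer_le fun K hK => cent_comm (a K hK)))
  refine Or.inr ⟨K, hc, ?_⟩
  have e : ncl T K = sSup (Set.range fun g : T => cj((g : H), K)) := rfl
  have hs : ∀ L ∈ Set.range fun g : T => cj((g : H), K), IsComponent L := by
    rintro _ ⟨g, rfl⟩
    exact hc.map_conj _
  have h1 := h.inner_sup hS hK hO hs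
  have h2 : ⁅ncl T K, ncl T K⁆ = ncl T K := perfect_sSup fun L hL => (hs L hL).commutator_eq
  rw [← e] at h1
  have h3 : X ≤ 𝐍[ncl T K] := norm_iSup fun g => h.le_norm_comp hS (hc.map_conj _)
  have h4 := le_norm_ncl T K
  refine h.le_of_le_sup h3 h4 (cent_le_norm _) ?_ h1
  by_contra h5
  have h6 := not_dvd_card_of_perfect h.hp h.h2 (hS p h.hp h.h2) _ _ h2 (cent_comm le_rfl) h5
  refine hn ((h.le_of_le_sup (norm_cent h3) (norm_cent h4) (norm_cent le_normalizer) ?_
    (sup_comm (ncl T K) _ ▸ h1)).trans (cent_anti (le_ncl _ _)))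
  intro A _ hA
  have := Fact.mk h.hp
  have a1 : IsPGroup p A := pg_iff.2 fun y hy => ⟨1, by rw [pow_one, hA y hy]⟩
  rw [eq_bot_of_coprime a1 le_top (by
    rw [card_top]; exact ((h.hp.coprime_iff_not_dvd).2 h6).symm), card_bot]
  exact Nat.one_le_pow _ _ h.hp.pos

end XiD

end Cfsg.Agent.QT
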