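import Mathlib
import Cfsg.Agent.S1822
import Cfsg.Agent.QT.XiMod
import Cfsg.Agent.QT.QrcCnt
import Cfsg.Agent.Loc.FFHol

/-! # Reductions for the faithful solvable uniqueness groups. -/

set_option autoImplicit false
set_option linter.unusedSectionVars false

namespace Cfsg.Agent.QT

open Cfsg Cfsg.Agent.GT Cfsg.Agent.Loc Cfsg.Agent.Loc.Mss Cfsg.Agent.Loc.Blk Cfsg.Agent.Loc.BH
  Subgroup
open scoped commutatorElement

variable {G : Type*} [Group G] [Finite G] {p : ℕ}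

theorem xi_facts {X T : Subgroup G} (hX : X ∈ Xi T) :
    ∃ p, XiD p X T (twoPhiCore X) ∧ pCoreOf 2 X ≤ twoPhiCore X ∧ IsPGroup p (X ⧸ pCore 2 X) ∧
      (∀ Y ≤ X, twoPhiCore X ⊔ Y = X → X ≤ Y ⊔ pCoreOf 2 X) ∧ 𝐍[X] ≤ 𝐍[twoPhiCore X] ∧
      (pCoreOf 2 X).relIndex (twoPhiCore X) ∣ p := by
  obtain ⟨p, hD, hO⟩ := S1822.xiD hX
  obtain ⟨-, -, -, ⟨q, hq, -, h3⟩, -⟩ := hX
  obtain ⟨n, hn⟩ : ∃ n, Nat.card (X ⧸ pCore 2 X) = q ^ n := h3.elim (fun a => ⟨_, a.1⟩) fun a => ⟨_, a.1⟩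
  have e1 : (pCoreOf 2 X).relIndex X = q ^ n := by
    rw [relIndex, pCoreOf, subgroupOf, comap_map_eq_self_of_injective X.subtype_injective, ← hn]
    rfl
  have e2 := relIndex_mul_relIndex _ _ _ hO hD.le
  rw [e1, hD.idx] at e2
  obtain rfl : p = q := (Nat.prime_dvd_prime_iff_eq hD.hp hq).1
    (hD.hp.dvd_of_dvd_pow (((dvd_pow_self p two_ne_zero).trans (Dvd.intro_left _ rfl)).trans e2.dvd))
  set π := QuotientGroup.mk' (pCore 2 X)
  have hπ : Function.Surjective π := QuotientGroup.mk'_surjective _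
  set F := frattini (X ⧸ pCore 2 X)
  have hc : (F.comap π).Characteristic := Characteristic.comap_quotient_mk inferInstance
  refine ⟨p, hD, hO, .of_card hn, fun Y a1 b => ?_, normalizer_le_normalizer_map_subtype X _, ?_⟩
  · have b1 : F.comap π ⊔ Y.subgroupOf X = ⊤ := map_injective X.subtype_injective (by
      rw [Subgroup.map_sup, map_subgroupOf_eq_of_le a1, Mss.map_subtype_top]
      exact b)
    have b2 : (Y.subgroupOf X).map π = ⊤ := frattini_nongenerating (by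
      have := congrArg (map π) b1
      rwa [Subgroup.map_sup, map_comap_eq_self_of_surjective hπ F, map_top_of_surjective _ hπ,
        sup_comm] at this)
    have b3 := congrArg (map X.subtype) (congrArg (comap π) b2)
    rw [comap_map_eq, QuotientGroup.ker_mk', comap_top, Subgroup.map_sup,
      map_subgroupOf_eq_of_le a1, Mss.map_subtype_top] at b3
    exact b3.ge
  · obtain ⟨k, hk⟩ := hD.card
    exact (((Nat.Coprime.pow n k ((Nat.coprime_primes hq Nat.prime_two).2 hD.h2)).coprime_dvd_left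
      (Dvd.intro _ e2))).dvd_of_dvd_mul_left ((relIndex_dvd_card _ _).trans hk)

theorem XiD.core {X T Φ : Subgroup G} (h : XiD p X T Φ) (hT : Syl 2 T ⊤)
    (hgen : ∀ Y ≤ X, Φ ⊔ Y = X → X ≤ Y ⊔ pCoreOf 2 X) : T ⊓ cmod X Φ ≤ pCoreOf 2 (X ⊔ T) := by
  set S := T ⊓ cmod X Φ with hS
  have hXΦ := h.normX le_rfl h.le
  have a1 : X ≤ cmod X Φ := le_cmod.2 ⟨hXΦ, h.comm⟩
  have a2 : T ≤ 𝐍[S] := norm_inf le_normalizer (norm_cmod h.norm h.normΦ)
  have a3 : X ≤ 𝐍[Φ ⊔ S] := norm_of_comm_le' le_sup_left (by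
    rw [commutator_comm]
    exact (commutator_mono le_rfl (sup_le (h.le.trans a1) inf_le_right)).trans (comm_cmod_le _ _))
  have a4 : T ⊓ (Φ ⊔ S) = S := le_antisymm (inf_le_inf_left _ (sup_le (h.le.trans a1) inf_le_right))
    (le_inf inf_le_left le_sup_right)
  have a5 := hT.inf le_top (norm_sup h.normΦ a2)
  rw [a4] at a5
  have a6 : Φ ⊔ X ⊓ 𝐍[S] = X := le_antisymm (sup_le h.le inf_le_left) fun x hx => by
    obtain ⟨m, hm, k, hk, rfl⟩ := a5.frattini (a3 hx)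
    obtain ⟨f, hf, s, hs, rfl⟩ := (mem_sup_norm (inf_le_left.trans h.normΦ)).1 hm
    rw [mul_assoc] at hx ⊢
    exact mul_mem_sup hf ⟨(mul_mem_cancel_left (h.le hf)).1 hx, mul_mem (le_normalizer hs) hk⟩
  have a7 : pCoreOf 2 X ≤ S := le_inf (hT.le_of_norm (pg_core X) le_top (norm_core h.norm))
    ((core_le X).trans a1)
  exact le_core_of_norm hT.pg.to_inf_left (inf_le_left.trans le_sup_right) (sup_le
    ((hgen _ inf_le_left a6).trans (sup_le inf_le_right (a7.trans le_normalizer))) a2)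

theorem cent_step {r q : ℕ} (hr : r.Prime) (hq : q.Prime) {A L K : Subgroup G} (hA : IsPGroup r A)
    (hK : A ≤ 𝐍[K]) (hL : L ≤ K) (hLA : L ≤ 𝐂[A]) (hi : L.relIndex K ∣ q)
    (h1 : ¬ r ∣ q - 1) (h2 : ¬ r ∣ Nat.card L) : K ≤ 𝐂[A] := by
  have := Fact.mk hr
  have a1 := card_modEq_card_inf_centralizer hA hK
  have a2 := relIndex_mul_relIndex L (K ⊓ 𝐂[A]) K (le_inf hL hLA) inf_le_left
  by_contra hc
  have a3 : (K ⊓ 𝐂[A]).relIndex K = q :=
    ((Nat.dvd_prime hq).1 ((Dvd.intro_left _ a2).trans hi)).resolve_left fun e =>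
      hc ((relIndex_eq_one.1 e).trans inf_le_right)
  have a4 : L.relIndex (K ⊓ 𝐂[A]) = 1 := by
    rw [← a2, a3] at hi
    exact Nat.dvd_one.1 (Nat.dvd_of_mul_dvd_mul_right hq.pos (by rwa [one_mul]))
  have a5 : K ⊓ 𝐂[A] = L := le_antisymm (relIndex_eq_one.1 a4) (le_inf hL hLA)
  rw [a5] at a1 a3
  have a6 := rI_card L K
  rw [inf_eq_right.2 hL, a3] at a6
  rw [← a6] at a1
  have a7 := (Nat.modEq_iff_dvd' (Nat.le_mul_of_pos_left _ hq.pos)).1 a1.symm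
  rw [← Nat.sub_one_mul] at a7
  exact (hr.dvd_mul.1 a7).elim h1 h2

instance finite_hol (V : Subgroup G) : Finite (FF.Hol V) :=
  Finite.of_equiv _ SemidirectProduct.equivProd.symm

theorem bar_pg {X V : Subgroup G} (h : IsPGroup p (X ⧸ pCore 2 X)) (hO : pCoreOf 2 X ≤ 𝐂[V]) :
    IsPGroup p (FF.bar V X) := by
  rintro ⟨_, hx⟩
  obtain ⟨x, h1, h2, rfl⟩ := FF.mem_bar.1 hx
  obtain ⟨k, hk⟩ := h (⟨x, h1⟩ : X)
  refine ⟨k, Subtype.ext ?_⟩
  change FF.tf V x ^ p ^ k = 1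
  rw [← FF.tf_pow h2, FF.tf_eq_one_iff (pow_mem h2 _)]
  exact hO ⟨⟨x, h1⟩ ^ p ^ k, (QuotientGroup.eq_one_iff _).1 (by
    rw [QuotientGroup.mk_pow]; exact hk), rfl⟩

theorem not_cent_oz (hp : p.Prime) (h2 : p ≠ 2) {X R : Subgroup G}
    (h : IsPGroup p (X ⧸ pCore 2 X)) (hV : moduleV X ≠ ⊥) (hR : IsPGroup 2 R) (hn : R ≤ 𝐍[X])
    (hO : pCoreOf 2 X ≤ R) : ¬ X ≤ 𝐂[ΩZ[2, R]] := fun hc => by
  have := Fact.mk hp
  set W := ΩZ[2, pCoreOf 2 X]
  change ⁅W, X⁆ ≠ ⊥ at hV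
  have hW : IsElementaryAbelian 2 W := ea_oz _
  have a1 : X ≤ 𝐍[W] := norm_oz (le_norm_core X)
  have a2 : ⁅W, X⁆ ≤ W := comm_le_left a1
  have a3 := FF.isElementaryAbelian_lo hW
  have a4 := CopAct.commutator_inf_centralizer_eq_bot a3.1
    ((FF.bar_le_normalizer_lo_iff le_rfl a1).2 a1)
    (IsPGroup.coprime_card_of_ne p 2 h2 _ _ (bar_pg h (le_cent_oz _)) a3.isPGroup)
  rw [FF.lo_commutator le_rfl a1, FF.lo_inf_centralizer a2 a1,
    FF.lo_eq_bot_iff (inf_le_left.trans a2)] at a4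
  refine PG.inf_centralizer_ne_bot_of_isPGroup (hW.isPGroup.to_le a2) hR
    (norm_comm (norm_oz (norm_core hn)) hn) hV (eq_bot_iff.2 (le_trans (le_inf inf_le_left ?_) a4.le))
  exact (le_oz (hW.mono (inf_le_left.trans a2)) ((inf_le_left.trans a2).trans ((oz_le _).trans hO))
    inf_le_right).trans (cent_comm hc)

theorem cmod_of_chain {r : ℕ} (hr : r.Prime) (hp : p.Prime) (h1 : ¬ r ∣ p - 1) (h2 : r ≠ p)
    {A O Φ Y X : Subgroup G} (hA : IsPGroup r A) (hO : X ⊔ A ≤ 𝐍[O]) (hΦ : A ≤ 𝐍[Φ])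
    (hY : A ≤ 𝐍[Y]) (hX : A ≤ 𝐍[X]) (l1 : O ≤ Φ) (l2 : Φ ≤ Y) (l3 : Y ≤ X)
    (i1 : O.relIndex Φ ∣ p) (i2 : Φ.relIndex Y ∣ p) (i3 : Y.relIndex X ∣ p) : A ≤ cmod X O := by
  set M := X ⊔ A
  have := normal_subgroupOf_of_le_normalizer hO
  set f := QuotientGroup.mk' (O.subgroupOf M)
  have hk : f.ker = O.subgroupOf M := QuotientGroup.ker_mk' _
  have hXM : X ≤ M := le_sup_left
  have n : ∀ U ≤ X, A ≤ 𝐍[U] → (A.subgroupOf M).map f ≤ 𝐍[(U.subgroupOf M).map f] :=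
    fun U u1 u2 => map_norm_le f (by rw [norm_subgroupOf (u1.trans hXM)]; exact comap_mono u2)
  have i : ∀ U W, O ≤ U → U ≤ W → W ≤ X →
      ((U.subgroupOf M).map f).relIndex ((W.subgroupOf M).map f) = U.relIndex W :=
    fun U W u1 u2 u3 => by
      rw [relIndex_map_of_ker f (subgroupOf_mono M u2) (by rw [hk]; exact inf_le_right.trans (comap_mono u1)),
        relIndex_subgroupOf (u3.trans hXM)]
  have e : (O.subgroupOf M).map f = ⊥ := by rw [Subgroup.map_eq_bot_iff, hk]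
  have c : ∀ U, O ≤ U → U ≤ X → O.relIndex U ∣ p ^ 2 → ¬ r ∣ Nat.card ((U.subgroupOf M).map f) :=
    fun U u1 u2 u3 u4 => by
      rw [← relIndex_bot_left, ← e, i _ _ le_rfl u1 u2] at u4
      exact h2 ((Nat.prime_dvd_prime_iff_eq hr hp).1 (hr.dvd_of_dvd_pow (u4.trans u3)))
  have hA' : IsPGroup r ((A.subgroupOf M).map f) := hA.comap_subtype.map f
  have s1 := cent_step hr hp hA' (n Φ (l2.trans l3) hΦ) (map_mono (comap_mono l1))
    (e.le.trans bot_le) ((i _ _ le_rfl l1 (l2.trans l3)).dvd.trans i1) h1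
    (c O le_rfl (l1.trans (l2.trans l3)) (by rw [relIndex_self]; exact one_dvd _))
  have s2 := cent_step hr hp hA' (n Y l3 hY) (map_mono (comap_mono l2)) s1
    ((i _ _ l1 l2 l3).dvd.trans i2) h1
    (c Φ l1 (l2.trans l3) (i1.trans (dvd_pow_self p two_ne_zero)))
  have s3 := cent_step hr hp hA' (n X le_rfl hX) (map_mono (comap_mono l3)) s2
    ((i _ _ (l1.trans l2) l3 le_rfl).dvd.trans i3) h1 (c Y (l1.trans l2) l3 (by
      rw [← relIndex_mul_relIndex _ _ _ l1 l2, sq]; exact Nat.mul_dvd_mul i1 i2))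
  rw [← comm_eq_bot_iff, ← Subgroup.map_commutator, Subgroup.map_eq_bot_iff, hk] at s3
  have s4 := map_mono (f := M.subtype) s3
  rw [Subgroup.map_commutator, map_subgroupOf_eq_of_le hXM, map_subgroupOf_eq_of_le le_sup_right,
    map_subgroupOf_eq_of_le ((l1.trans (l2.trans l3)).trans hXM)] at s4
  exact le_cmod.2 ⟨le_sup_right.trans hO, s4⟩

end Cfsg.Agent.QT
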