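import Mathlib
import Cfsg.Agent.QT.XiRed

/-! # 2F-modules for the solvable uniqueness groups: elements of order three. -/

set_option autoImplicit false
set_option linter.unusedSectionVars false

namespace Cfsg.Agent.QT

open Cfsg Cfsg.Agent.GT Cfsg.Agent.Loc Cfsg.Agent.Loc.Mss Cfsg.Agent.Loc.Blk Subgroup
open scoped commutatorElement

variable {G : Type*} [Group G] [Finite G] {p : ℕ}

theorem three_le {W E : Subgroup G} (hp : p.Prime) (hW : IsElementaryAbelian 2 W)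
    (hE : IsElementaryAbelian p E) (hc : Nat.card E = p ^ 2) (hn : E ≤ 𝐍[W]) (hf : W ⊓ 𝐂[E] = ⊥)
    {Y₁ Y₂ Y₃ : Subgroup G} (l1 : Y₁ ≤ E) (l2 : Y₂ ≤ E)
    (l3 : Y₃ ≤ E) (n1 : Y₁ ≠ ⊥) (n2 : Y₂ ≠ ⊥) (d1 : ¬ Y₂ ≤ Y₁) (d2 : ¬ Y₃ ≤ Y₁) (d3 : ¬ Y₃ ≤ Y₂) :
    Nat.card ↥(W ⊓ 𝐂[Y₁]) * Nat.card ↥(W ⊓ 𝐂[Y₂]) * Nat.card ↥(W ⊓ 𝐂[Y₃]) ≤ Nat.card W := by
  have fi : ∀ {Y Z : Subgroup G}, Y ≤ E → Z ≤ E → Y ≠ ⊥ → ¬ Z ≤ Y → W ⊓ 𝐂[Y] ⊓ 𝐂[Z] = ⊥ :=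
    fun hY hZ h1 h2 => by rw [inf_assoc, ← cent_sup, sup_eq_of_sq hp hc hY hZ h1 h2, hf]
  have hWc := ea_le_cent hW
  have hnn : ∀ U ≤ W, ∀ U' ≤ W, U ≤ 𝐍[U'] := fun U l U' l' =>
    norm_of_cent (l.trans (hWc.trans (cent_anti l')))
  have c1 : W ⊓ 𝐂[Y₁] ⊓ (W ⊓ 𝐂[Y₂]) = ⊥ := eq_bot_iff.2
    ((inf_le_inf_left _ inf_le_right).trans (fi l1 l2 n1 d1).le)
  have c2 : (W ⊓ 𝐂[Y₁] ⊔ W ⊓ 𝐂[Y₂]) ⊓ (W ⊓ 𝐂[Y₃]) = ⊥ := eq_bot_iff.2 fun w hw => by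
    obtain ⟨x, hx, y, hy, rfl⟩ := (mem_sup_norm (hnn _ inf_le_left _ inf_le_left)).1 hw.1
    have m : ∀ Y ≤ E, E ≤ 𝐍[W ⊓ 𝐂[Y]] := fun Y l =>
      norm_inf hn (norm_cent (norm_of_cent ((ea_le_cent hE).trans (cent_anti l))))
    have e : ∀ z ∈ Y₃, z * x * z⁻¹ = x ∧ z * y * z⁻¹ = y := fun z hz => by
      have g1 := mem_cent.1 hw.2.2 z hz
      have g2 : x⁻¹ * (z * x * z⁻¹) = y * (z * y * z⁻¹)⁻¹ := by
        calc _ = x⁻¹ * (z * (x * y)) * z⁻¹ * (z * y * z⁻¹)⁻¹ := by group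
          _ = _ := by rw [g1]; group
      have g3 : x⁻¹ * (z * x * z⁻¹) = 1 := mem_bot.1 (c1.le (mem_inf.2
        ⟨mul_mem (inv_mem hx) (conj_mem_of_norm (m _ l1 (l3 hz)) hx),
          g2 ▸ mul_mem hy (inv_mem (conj_mem_of_norm (m _ l2 (l3 hz)) hy))⟩))
      exact ⟨(inv_mul_eq_one.1 g3).symm, (mul_inv_eq_one.1 (g2.symm.trans g3)).symm⟩
    rw [mem_bot.1 ((fi l1 l3 n1 d2).le ⟨hx, mem_cent.2 fun z hz =>
        mul_inv_eq_iff_eq_mul.1 (e z hz).1⟩),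
      mem_bot.1 ((fi l2 l3 n2 d3).le ⟨hy, mem_cent.2 fun z hz =>
        mul_inv_eq_iff_eq_mul.1 (e z hz).2⟩), mul_one]
    exact one_mem _
  have l : W ⊓ 𝐂[Y₁] ⊔ W ⊓ 𝐂[Y₂] ≤ W := sup_le inf_le_left inf_le_left
  have e1 := Loc.card_sup_mul_card_inf_of_le_normalizer (hnn _ (inf_le_left (b := 𝐂[Y₁])) _
    (inf_le_left (b := 𝐂[Y₂])))
  have e2 := Loc.card_sup_mul_card_inf_of_le_normalizer (hnn _ l _ (inf_le_left (b := 𝐂[Y₃])))
  rw [c1, card_bot, mul_one] at e1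
  rw [c2, card_bot, mul_one, e1] at e2
  exact e2.ge.trans (card_le_of_le (sup_le l inf_le_left))

theorem card_zp (hp : p.Prime) {x : G} (h1 : x ≠ 1) (h : x ^ p = 1) : Nat.card (zpowers x) = p := by
  have := Fact.mk hp
  rw [Nat.card_zpowers, orderOf_eq_prime h h1]

theorem cop23 {A B : Subgroup G} (hA : IsPGroup 3 A) (hB : IsPGroup 2 B) :
    (Nat.card A).Coprime (Nat.card B) :=
  have := Fact.mk Nat.prime_three
  IsPGroup.coprime_card_of_ne 3 2 (by norm_num) _ _ hA hB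

section Lines

variable {E : Subgroup G} (hE : IsElementaryAbelian 3 E) (hc : Nat.card E = 3 ^ 2) {g : G}
  (g1 : g ∈ 𝐍[E]) (g2 : IsPGroup 3 (zpowers g)) (g3 : g ∉ 𝐂[E])
include hE hc g1 g2 g3

theorem card_fix3 : Nat.card ↥(E ⊓ 𝐂[zpowers g]) = 3 :=
  have := Fact.mk Nat.prime_three
  card_of_sq Nat.prime_three hc inf_le_left (PG.inf_centralizer_ne_bot_of_isPGroup hE.isPGroup g2
    (zpowers_le.2 g1) fun e => by rw [e, card_bot] at hc; omega)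
    fun e => g3 (cent_comm (e.ge.trans inf_le_right) (mem_zpowers g))

theorem lines3 {Y : Subgroup G} (y1 : Y ≤ E) (y2 : Nat.card Y = 3) (y3 : Y ≠ E ⊓ 𝐂[zpowers g]) :
    g ∉ 𝐍[Y] ∧ ∀ Z ≤ E, Nat.card Z = 3 → Z ≠ E ⊓ 𝐂[zpowers g] → ∃ k : ℕ, cj(g ^ k, Y) = Z := by
  have := Fact.mk Nat.prime_three
  have c0 := card_fix3 hE hc g1 g2 g3
  set F := E ⊓ 𝐂[zpowers g] with hF
  have f0 : F ≠ ⊥ := fun e => by rw [e, card_bot] at c0; omega
  have ne : ∀ {Z : Subgroup G}, Nat.card Z = 3 → Z ≠ F → ¬ Z ≤ F := fun z2 z3 l =>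
    z3 (Loc.eq_of_le_of_card_le l (c0.trans z2.symm).le)
  refine ⟨fun n => ne y2 y3 (le_inf y1 (cent_comm
    (PG.le_centralizer_of_card_prime y2 g2 (zpowers_le.2 n)))), fun Z z1 z2 z3 => ?_⟩
  have i1 : F.relIndex E = 3 := by
    have := rI_card F E
    rw [inf_eq_right.2 (inf_le_left : F ≤ E), c0, hc] at this
    omega
  have i2 := (PG.commutator_le_of_relIndex_prime hE.isPGroup g2 (zpowers_le.2 g1)
    (norm_inf (zpowers_le.2 g1) (norm_cent le_normalizer)) inf_le_left i1).1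
  obtain ⟨b, b1, b2⟩ := SetLike.not_le_iff_exists.1 (ne z2 z3)
  have b3 := (sup_eq_of_sq Nat.prime_three hc inf_le_left y1 f0 (ne y2 y3)).ge (z1 b1)
  obtain ⟨y, hy, z, hz, rfl⟩ := (mem_sup_norm (norm_of_cent (y1.trans ((ea_le_cent hE).trans
    (cent_anti (inf_le_left : F ≤ E)))))).1 b3
  have z4 : z ∉ F := fun l => b2 (mul_mem hy l)
  have z5 : ∀ {U : Subgroup G} {u : G}, Nat.card U = 3 → u ∈ U → u ≠ 1 → zpowers u = U :=
    fun u1 u2 u3 => (eq_or_of_prime Nat.prime_three u1 (zpowers_le.2 u2)).resolve_left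
      fun e => u3 (zpowers_eq_bot.1 e)
  have c1 : ⁅g, z⁆ ∈ F := by
    rw [← inv_mem_iff, commutatorElement_inv]
    exact i2 (commutator_mem_commutator (y1 hz) (mem_zpowers g))
  have c2 : ⁅g, z⁆ ≠ 1 := fun e => z4 ⟨y1 hz, cent_comm (zpowers_le.2 (mem_cent.2 fun v hv => by
    obtain ⟨k, rfl⟩ := hv
    exact ((commutatorElement_eq_one_iff_commute.1 e).symm.zpow_left k).eq)) (mem_zpowers z)⟩
  obtain ⟨k, rfl⟩ := mem_powers_iff_mem_zpowers.2 ((z5 c0 c1 c2).ge hy)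
  refine ⟨k, ?_⟩
  rw [← z5 y2 hz fun e => z4 (e ▸ one_mem _), ← z5 z2 b1 fun e => b2 (e ▸ one_mem _),
    MonoidHom.map_zpowers]
  congr 1
  change g ^ k * z * (g ^ k)⁻¹ = ⁅g, z⁆ ^ k * z
  have c3 : Commute g ⁅g, z⁆ := mem_cent.1 c1.2 g (mem_zpowers g)
  clear hy b1 b2 b3
  induction k with
  | zero => simp
  | succ n ih =>
    calc g ^ (n + 1) * z * (g ^ (n + 1))⁻¹ = g * (g ^ n * z * (g ^ n)⁻¹) * g⁻¹ := by group
      _ = ⁅g, z⁆ ^ n * (g * z * g⁻¹) := by rw [ih, ← mul_assoc, (c3.pow_right n).eq]; group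
      _ = _ := by rw [pow_succ, commutatorElement_def]; group

theorem big3 {V : Subgroup G} (hV : IsElementaryAbelian 2 V) (hn : E ≤ 𝐍[V]) (g4 : g ∈ 𝐍[V])
    (h0 : ¬ E ⊓ 𝐂[zpowers g] ≤ 𝐂[V]) :
    ∃ Y ≤ E, Nat.card Y = 3 ∧ Y ≠ E ⊓ 𝐂[zpowers g] ∧
      4 ≤ Nat.card ↥(⁅V, E ⊓ 𝐂[zpowers g]⁆ ⊓ 𝐂[Y]) ∧
      Nat.card ↥(⁅V, E ⊓ 𝐂[zpowers g]⁆ ⊓ 𝐂[Y]) ^ 3 ≤ (𝐂[E ⊓ 𝐂[zpowers g]]).relIndex V := by
  have := Fact.mk Nat.prime_three
  set F := E ⊓ 𝐂[zpowers g] with hF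
  set U := ⁅V, F⁆ with hU
  have hEc := ea_le_cent hE
  have f1 : F ≤ 𝐍[V] := inf_le_left.trans hn
  have f2 := cop23 (hE.isPGroup.to_le (inf_le_left : F ≤ E)) hV.isPGroup
  have u1 : U ≤ V := comm_le_left f1
  have u2 : U ⊓ 𝐂[F] = ⊥ := CopAct.commutator_inf_centralizer_eq_bot hV.1 f1 f2
  have u3 : Nat.card U = (𝐂[F]).relIndex V := by
    have := CopAct.card_eq_card_commutator_mul_card_centralizer hV.1 f1 f2
    rw [← rI_card (𝐂[F]) V] at this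
    exact (Nat.eq_of_mul_eq_mul_right Nat.card_pos this).symm
  have u4 : E ≤ 𝐍[U] := norm_comm hn (norm_of_cent (hEc.trans (cent_anti inf_le_left)))
  have u5 : g ∈ 𝐍[U] := norm_comm (zpowers_le.2 g4)
    (norm_inf (zpowers_le.2 g1) (norm_cent le_normalizer)) (mem_zpowers g)
  have hU' := hV.mono u1
  have u6 : U ⊓ 𝐂[E] = ⊥ := eq_bot_iff.2 ((inf_le_inf_left _ (cent_anti inf_le_left)).trans u2.le)
  obtain ⟨y, hy, y1, y2⟩ := CopAct.exists_inf_centralizer_ne_bot hE.1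
    (CopAct.not_isCyclic_of_isElementaryAbelian hE hc.ge) u4 (cop23 hE.isPGroup hU'.isPGroup)
    fun e => h0 (comm_eq_bot_iff'.1 e)
  rw [← centralizer_closure, ← zpowers_eq_closure] at y2
  set Y := zpowers y
  have l1 : Y ≤ E := zpowers_le.2 hy
  have c1 : Nat.card Y = 3 := card_zp Nat.prime_three y1 (hE.2 y hy)
  have n1 : Y ≠ F := fun e => y2 (e ▸ u2)
  have n2 := (lines3 hE hc g1 g2 g3 l1 c1 n1).1
  have d : ∀ x, cj(x, Y) ≤ Y → x ∈ 𝐍[Y] := fun x l =>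
    cj_eq_iff.1 (Loc.eq_of_le_of_card_le l (Mss.card_cj Y x).ge)
  have fc : ∀ x ∈ 𝐍[U], Nat.card ↥(U ⊓ 𝐂[cj(x, Y)]) = Nat.card ↥(U ⊓ 𝐂[Y]) := fun x hx => by
    rw [← Mss.card_cj (U ⊓ 𝐂[Y]) x, Mss.cj_inf, Mss.cj_cent, cj_of_norm hx]
  have n0 : Y ≠ ⊥ := fun e => y1 (zpowers_eq_bot.1 e)
  have t := three_le Nat.prime_three hU' hE hc u4 u6 l1 (cj_le_of_norm l1 g1)
    (cj_le_of_norm l1 (mul_mem g1 g1)) n0 (fun e => n0 (cj_eq_bot.1 e)) (fun l => n2 (d g l))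
    (fun l => n2 (by
      obtain ⟨k, hk⟩ := g2 ⟨g, mem_zpowers g⟩
      refine mem_of_pow_mem (p := 2) (k := 1) (Nat.Coprime.coprime_dvd_left
        (orderOf_dvd_of_pow_eq_one (congrArg Subtype.val hk)) (Nat.Coprime.pow_left k (by norm_num))) ?_
      rw [pow_one, sq]; exact d _ l))
    (fun l => n2 (d g (by rwa [← Mss.cj_cj, cj_le_cj] at l)))
  rw [fc _ u5, fc _ (mul_mem u5 u5), u3] at t
  refine ⟨Y, l1, c1, n1, ?_, by rw [pow_three, ← mul_assoc]; exact t⟩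
  obtain ⟨k, hk⟩ := IsPGroup.iff_card.1 (hU'.isPGroup.to_le (inf_le_left : U ⊓ 𝐂[Y] ≤ U))
  have h1 := card_modEq_card_inf_centralizer (L := U ⊓ 𝐂[Y]) hE.isPGroup
    (norm_inf u4 (norm_cent (norm_of_cent (hEc.trans (cent_anti l1)))))
  rw [eq_bot_iff.2 ((inf_le_inf_right _ inf_le_left).trans u6.le), card_bot, hk] at h1
  rw [hk]
  match k, hk, h1 with
  | 0, hk, _ => exact absurd (card_eq_one.1 hk) y2
  | 1, _, h1 => exact absurd h1 (by decide)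
  | k + 2, _, _ => exact Nat.pow_le_pow_right two_pos (by omega : 2 ≤ k + 2)

end Lines

theorem cent_zp {a u : G} (h : ⁅u, a⁆ = 1) : u ∈ 𝐂[zpowers a] := mem_cent.2 fun v hv => by
  obtain ⟨k, rfl⟩ := hv
  exact ((commutatorElement_eq_one_iff_commute.1 h).symm.zpow_left k).eq

theorem flat3 {P T A V : Subgroup G} (hE : IsElementaryAbelian 3 P) (hc : Nat.card P = 3 ^ 2)
    (hT : T ≤ 𝐍[P]) (irr : ∀ Y ≤ P, T ≤ 𝐍[Y] → Y = ⊥ ∨ Y = P) (hAT : A ≤ T)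
    (hA : IsElementaryAbelian 2 A) (hf : A ⊓ 𝐂[P] = ⊥) (h24 : Nat.card A = 2 ∨ Nat.card A = 4)
    (hV : IsElementaryAbelian 2 V) (hP : P ≤ 𝐍[V]) (hPV : P ⊓ 𝐂[V] = ⊥) (hTV : T ≤ 𝐍[V])
    (hb : (𝐂[A]).relIndex V ≤ Nat.card A ^ 2) {g : G} (g1 : g ∈ 𝐍[P])
    (g2 : IsPGroup 3 (zpowers g)) (g4 : g ∈ 𝐍[V]) : g ∈ 𝐂[P] := by
  by_contra g3
  have := Fact.mk Nat.prime_three
  have c0 := card_fix3 hE hc g1 g2 g3
  have hPc := ea_le_cent hE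
  have hAP := hAT.trans hT
  have hAV := hAT.trans hTV
  obtain ⟨Y₁, -, -, -, b1, b2⟩ := big3 hE hc g1 g2 g3 hV hP g4 fun l => by
    rw [eq_bot_iff.2 ((le_inf inf_le_left l).trans hPV.le), card_bot] at c0; omega
  have l3 := @lines3 _ _ _ _ hE hc _ g1 g2 g3
  set F := P ⊓ 𝐂[zpowers g] with hF
  have b3 : 64 ≤ (𝐂[F]).relIndex V := (Nat.pow_le_pow_left b1 3).trans b2
  obtain ⟨t, ht, ht'⟩ : ∃ t ∈ T, ¬ cj(t, F) ≤ F := by
    by_contra hcon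
    push Not at hcon
    rcases irr F inf_le_left (norm_of_forall_cj_le hcon) with e | e
    · rw [e, card_bot] at c0; omega
    · rw [e, hc] at c0; omega
  have all : ∀ Y ≤ P, Nat.card Y = 3 → 64 ≤ (𝐂[Y]).relIndex V := fun Y y1 y2 => by
    by_cases e : Y = F
    · exact e ▸ b3
    obtain ⟨k, rfl⟩ := (l3 (cj_le_of_norm inf_le_left (hT ht)) ((Mss.card_cj F t).trans c0)
      fun e => ht' e.le).2 Y y1 y2 e
    rwa [relIndex_cent_cj, cj_of_norm (inv_mem (pow_mem g4 k)), relIndex_cent_cj,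
      cj_of_norm (inv_mem (hTV ht))]
  have hm : ∀ a ∈ A, ∀ u ∈ P, ⁅u, a⁆ ∈ P := fun a ha u hu =>
    comm_le_left hAP (commutator_mem_commutator hu ha)
  have hne : ∀ a ∈ A, a ≠ 1 → ¬ P ≤ 𝐂[zpowers a] := fun a ha h1 l =>
    h1 (mem_bot.1 (hf.le ⟨ha, cent_comm l (mem_zpowers a)⟩))
  have i8 : ∀ a ∈ A, a ≠ 1 → 8 ≤ (𝐂[zpowers a]).relIndex V := fun a ha h1 => by
    obtain ⟨u, hu, hu'⟩ := SetLike.not_le_iff_exists.1 (hne a ha h1)
    have a1 := (all _ (zpowers_le.2 (hm a ha u hu)) (card_zp Nat.prime_three (fun e => hu' (cent_zp e))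
      (hE.2 _ (hm a ha u hu)))).trans ((rI_left (inf_le_left.trans (cent_anti
        (zpowers_le.2 (comm_mem_sup_cj (mem_zpowers a) u))))).trans (rI_cent_sup_cj (hP hu)))
    nlinarith
  rcases h24 with h2 | h4
  · obtain ⟨a, ha, a1⟩ := (A.bot_or_exists_ne_one).resolve_left fun e => by
      rw [e, card_bot] at h2; omega
    have := i8 a ha a1
    rw [(eq_or_of_prime Nat.prime_two h2 (zpowers_le.2 ha)).resolve_left
      fun e => a1 (zpowers_eq_bot.1 e)] at this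
    rw [h2] at hb
    omega
  obtain ⟨a, ha, a1, a2⟩ := CopAct.exists_inf_centralizer_ne_bot hA.1
    (CopAct.not_isCyclic_of_isElementaryAbelian hA h4.ge) hAP (cop23 hE.isPGroup hA.isPGroup).symm
    fun e => by rw [e, card_bot] at hc; omega
  rw [← centralizer_closure, ← zpowers_eq_closure] at a2
  have hAa : A ≤ 𝐍[zpowers a] := norm_of_cent ((ea_le_cent hA).trans (cent_anti (zpowers_le.2 ha)))
  have haP : zpowers a ≤ 𝐍[P] := (zpowers_le.2 ha).trans hAP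
  set Y := P ⊓ 𝐂[zpowers a] with hY
  have c1 : Nat.card Y = 3 := card_of_sq Nat.prime_three hc inf_le_left a2
    fun e => hne a ha a1 (e.ge.trans inf_le_right)
  have n1 : ¬ A ≤ 𝐂[Y] := fun l => by
    have e1 : ⁅P, zpowers a⁆ ≤ P := comm_le_left haP
    have e2 : ⁅P, zpowers a⁆ ⊓ 𝐂[zpowers a] = ⊥ := CopAct.commutator_inf_centralizer_eq_bot hE.1 haP
      (cop23 hE.isPGroup (hA.isPGroup.to_le (zpowers_le.2 ha))).symm
    have e3 : ⁅P, zpowers a⁆ ≠ ⊥ := fun e => hne a ha a1 (comm_eq_bot_iff.1 e)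
    have i2 := rI_cent_le_two Nat.prime_three (card_of_sq Nat.prime_three hc e1 e3 fun e => a2
      (by rw [hY, ← e, e2])) (e1.trans (hPc.trans (cent_anti e1))) hA.2 (norm_comm hAP hAa)
    have i3 := rI_card (𝐂[⁅P, zpowers a⁆]) A
    rw [eq_bot_iff.2 (le_trans (le_inf inf_le_left ?_) hf.le), card_bot] at i3
    · omega
    exact (le_cent_sup (inf_le_left.trans l) inf_le_right).trans (cent_anti
      (sup_eq_of_sq Nat.prime_three hc inf_le_left e1 a2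
      fun l => e3 (eq_bot_iff.2 ((le_inf le_rfl (l.trans inf_le_right)).trans e2.le))).ge)
  obtain ⟨y, hy, y1⟩ := SetLike.not_le_iff_exists.1 fun l => n1 (cent_comm l)
  obtain ⟨b, hb', y2⟩ : ∃ b ∈ A, ⁅y, b⁆ ≠ 1 := by
    by_contra hcon
    push Not at hcon
    exact y1 (mem_cent.2 fun b hb' => (commutatorElement_eq_one_iff_mul_comm.1 (hcon b hb')).symm)
  have y3 : Y ≤ A ⊔ cj(y, A) := by
    rw [← (eq_or_of_prime Nat.prime_three c1 (zpowers_le.2 (comm_le_left (norm_inf hAP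
      (norm_cent hAa)) (commutator_mem_commutator hy hb')))).resolve_left
        fun e => y2 (zpowers_eq_bot.1 e), zpowers_le]
    exact comm_mem_sup_cj hb' y
  have y4 : y ∈ 𝐍[𝐂[zpowers a] ⊓ V] := norm_inf (norm_cent (norm_of_cent inf_le_right))
    (inf_le_left.trans hP) hy
  have k1 := rI_le_mul (𝐂[Y]) (𝐂[zpowers a]) V
  have k2 := (rI_left (inf_le_left.trans (cent_anti y3))).trans (rI_cent_sup_cj (L := A) y4)
  have k3 := rI_mul (A := 𝐂[A]) (B := 𝐂[zpowers a]) (C := V)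
    (inf_le_left.trans (cent_anti (zpowers_le.2 ha)))
  have k4 := all Y inf_le_left c1
  have k5 := i8 a ha a1
  rw [h4, k3] at hb
  generalize (𝐂[A]).relIndex (𝐂[zpowers a] ⊓ V) = j at *
  generalize (𝐂[zpowers a]).relIndex V = i at *
  have : j ≤ 2 := by nlinarith
  nlinarith [Nat.mul_le_mul_right i k2]

theorem XiD.extra3 {P T Φ V : Subgroup G} (h : XiD 3 P T Φ) (hexp : ∀ x ∈ P, x ^ 3 = 1)
    (hgen : ∀ Y ≤ P, Φ ⊔ Y = P → P ≤ Y) (h0 : Φ ≠ ⊥) (hV : IsElementaryAbelian 2 V)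
    (hP : P ≤ 𝐍[V]) (hPV : P ⊓ 𝐂[V] = ⊥) (hT : T ≤ 𝐍[V]) (hb : (𝐂[P]).relIndex V ≤ 256) {g : G}
    (g1 : g ∈ 𝐍[P]) (g0 : g ∈ 𝐍[Φ]) (g2 : IsPGroup 3 (zpowers g)) (g4 : g ∈ 𝐍[V]) :
    ∃ E ≤ P, Nat.card E = 3 ^ 2 ∧ ∃ u ∈ P, u * g ∈ 𝐂[E] ∧
      ∀ m, (u * g) ^ 3 ^ (m + 1) ∈ P → (u * g) ^ 3 ^ (m + 1) = 1 := by
  have := Fact.mk Nat.prime_three
  have hPp : IsPGroup 3 P := pg_iff.2 fun x hx => ⟨1, by rw [pow_one, hexp x hx]⟩
  have c1 : Nat.card Φ = 3 := by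
    obtain ⟨k, hk⟩ := h.card
    obtain ⟨j, hj⟩ := IsPGroup.iff_card.1 (hPp.to_le h.le)
    exact ((Nat.dvd_prime Nat.prime_three).1 ((Nat.Coprime.pow_right k (hj ▸ Nat.Coprime.pow_left j
      (by norm_num))).dvd_of_dvd_mul_left hk)).resolve_left fun e => h0 (card_eq_one.1 e)
  have c2 : P ≤ 𝐂[Φ] := PG.le_centralizer_of_card_prime c1 hPp (h.normX le_rfl h.le)
  obtain ⟨E, e1, e2, e3, e4⟩ := PG.exists_invariant_relIndex_eq hPp g2 (zpowers_le.2 g1)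
    (zpowers_le.2 g0) (lt_of_le_not_ge h.le h.not_le)
  have c3 : Nat.card E = 3 ^ 2 := by
    have := rI_card E P
    rw [inf_eq_right.2 e2, e3, h.card_eq, c1] at this
    omega
  have hE : IsElementaryAbelian 3 E :=
    ⟨FT.b4_comm_of_card_le_sq (hPp.to_le e2) c3.le, fun y hy => hexp y (e2 hy)⟩
  have e5 := h.normX e1 e2
  obtain ⟨u, hu, u1⟩ := SetLike.not_le_iff_exists.1 fun l : P ≤ 𝐂[E] => by
    rcases h.inv (P ⊓ 𝐂[P]) inf_le_left (norm_inf le_normalizer (norm_cent le_normalizer))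
      (norm_inf h.norm (norm_cent h.norm)) with a | a
    · have := card_le_of_le ((le_inf e2 (cent_comm l)).trans a)
      omega
    obtain ⟨Y, y1, y2⟩ := CopAct.exists_complement_of_isElementaryAbelian (p := 3)
      ⟨le_centralizer_iff_isMulCommutative.1 (a.ge.trans inf_le_right), hexp⟩ h.le
    exact h0 (eq_bot_iff.2 ((le_inf le_rfl (h.le.trans (hgen Y (le_sup_right.trans y2.le) y2))).trans
      y1.le))
  have u2 := hPp.to_le (zpowers_le.2 hu)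
  have f1 : E ⊓ 𝐂[zpowers u] = Φ := (Loc.eq_of_le_of_card_le (le_inf e1 (cent_comm
    ((zpowers_le.2 hu).trans c2))) ((card_fix3 hE c3 (e5 hu) u2 u1).trans c1.symm).le).symm
  have hΦV := h.le.trans hP
  have n0 : ¬ Φ ≤ 𝐂[V] := fun l => h0 (eq_bot_iff.2 ((le_inf h.le l).trans hPV.le))
  obtain ⟨Y, y1, y2, y3, -, y5⟩ := big3 hE c3 (e5 hu) u2 u1 hV (e2.trans hP) (hP hu) (f1 ▸ n0)
  have l3 := (lines3 hE c3 (e5 hu) u2 u1 y1 y2 y3).2
  rw [f1] at y3 y5 l3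
  set U := ⁅V, Φ⁆ with hU
  have y6 : Nat.card ↥(U ⊓ 𝐂[Y]) < 9 := by
    have := y5.trans ((rI_left (inf_le_left.trans (cent_anti h.le))).trans hb)
    by_contra hc
    have := Nat.pow_le_pow_left (not_lt.1 hc) 3
    omega
  obtain ⟨k, hk⟩ := l3 _ (cj_le_of_norm y1 (e4 (mem_zpowers g))) ((Mss.card_cj Y g).trans y2)
    fun e => y3 (cj_eq_cj.1 (e.trans (cj_of_norm g0).symm))
  have k1 := inv_mem (pow_mem hu k)
  set y := (u ^ k)⁻¹ * g with hy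
  have k2 : IsPGroup 3 (zpowers y) := (pg_sup' hPp g2 (zpowers_le.2 g1)).to_le
    (zpowers_le.2 (mul_mem_sup k1 (mem_zpowers g)))
  have k3 : y ∈ 𝐍[Y] := cj_eq_iff.1 (by rw [← Mss.cj_cj, ← hk, Mss.cj_cj, inv_mul_cancel, Mss.cj_one])
  have k4 : y ∈ 𝐍[Φ] := mul_mem (norm_of_cent c2 k1) g0
  have k5 : zpowers y ≤ 𝐂[E] := by
    rw [← sup_eq_of_sq Nat.prime_three c3 e1 y1 h0
      fun l => y3 (Loc.eq_of_le_of_card_le l (c1.trans y2.symm).le)]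
    exact le_cent_sup (PG.le_centralizer_of_card_prime c1 k2 (zpowers_le.2 k4))
      (PG.le_centralizer_of_card_prime y2 k2 (zpowers_le.2 k3))
  have v1 : U ≤ V := comm_le_left hΦV
  have v2 : U ⊓ 𝐂[Φ] = ⊥ := CopAct.commutator_inf_centralizer_eq_bot hV.1 hΦV
    (cop23 (hPp.to_le h.le) hV.isPGroup)
  have v3 : P ≤ 𝐍[U] := norm_comm hP (norm_of_cent c2)
  have v4 : zpowers y ≤ 𝐍[U] := norm_comm (zpowers_le.2 (mul_mem (hP k1) g4)) (zpowers_le.2 k4)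
  have v5 : U ≤ 𝐂[zpowers (y ^ 3)] := CopAct.le_of_centralizer_elt_le hE.1
    (CopAct.not_isCyclic_of_isElementaryAbelian hE c3.ge) (e2.trans v3)
    (cop23 hE.isPGroup (hV.mono v1).isPGroup) fun a ha a1 => by
      rw [← centralizer_closure, ← zpowers_eq_closure]
      by_cases e : zpowers a = Φ
      · rw [e, v2]; exact bot_le
      obtain ⟨j, hj⟩ := l3 _ (zpowers_le.2 ha) (card_zp Nat.prime_three a1 (hE.2 a ha)) e
      have a2 : Nat.card ↥(U ⊓ 𝐂[zpowers a]) < 9 := by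
        rwa [← hj, ← Mss.cj_cent, ← cj_of_norm (v3 (pow_mem hu j)), ← Mss.cj_inf, Mss.card_cj]
      have a3 : zpowers y ≤ 𝐍[U ⊓ 𝐂[zpowers a]] := norm_inf v4 (norm_cent (norm_of_cent
        (k5.trans (cent_anti (zpowers_le.2 ha)))))
      intro w hw
      have a4 := (FT.b4_relIndex_cent_elt_le (H := zpowers y) (v := w) fun x hx =>
        comm_le_right a3 (commutator_mem_commutator hx hw)).trans_lt a2
      obtain ⟨n, hn⟩ := k2.index ((centralizer {w}).subgroupOf (zpowers y))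
      have a5 := ((centralizer {w}).subgroupOf (zpowers y)).pow_index_mem ⟨y, mem_zpowers y⟩
      rw [relIndex, hn] at a4
      rw [hn] at a5
      have a6 : y ^ 3 ∈ centralizer {w} := by
        have : n < 2 := (Nat.pow_lt_pow_iff_right (by norm_num)).1 a4
        interval_cases n
        · exact pow_mem (by simpa [mem_subgroupOf] using a5) 3
        · exact a5
      exact cent_zp (commutatorElement_eq_one_iff_mul_comm.2 (mem_centralizer_singleton_iff.1 a6).symm)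
  have v6 : ¬ Φ ≤ 𝐂[U] := fun l => n0 (comm_eq_bot_iff'.1 (eq_bot_iff.2
    ((le_inf le_rfl (cent_comm l)).trans v2.le)))
  have v7 : P ⊓ 𝐂[U] = ⊥ := (eq_or_of_prime Nat.prime_three c1 ((h.inv _ inf_le_left
    (norm_inf le_normalizer (norm_cent v3)) (norm_inf h.norm (norm_cent (norm_comm hT h.normΦ)))
      ).resolve_right fun e => v6 (h.le.trans (e.ge.trans inf_le_right)))).resolve_right
    fun e => v6 (e.ge.trans inf_le_right)
  refine ⟨E, e2, c3, _, k1, k5 (mem_zpowers y), fun m hm => mem_bot.1 (v7.le ⟨hm, ?_⟩)⟩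
  rw [pow_succ', pow_mul]
  exact pow_mem (cent_comm v5 (mem_zpowers _)) _

theorem odd_of_pg {r : ℕ} (hr : r.Prime) (r2 : r ≠ 2) {g : G} (g2 : IsPGroup r (zpowers g)) :
    (orderOf g).Coprime 2 := by
  obtain ⟨k, hk⟩ := g2 ⟨g, mem_zpowers g⟩
  exact Nat.Coprime.coprime_dvd_left (orderOf_dvd_of_pow_eq_one (congrArg Subtype.val hk))
    (Nat.Coprime.pow_left k ((Nat.coprime_primes hr Nat.prime_two).2 r2))

theorem XiD.odd5 {P T Φ A V : Subgroup G} (h : XiD p P T Φ) (h3 : p ≠ 3) (hPp : IsPGroup p P)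
    (hgen : ∀ Y ≤ P, Φ ⊔ Y = P → P ≤ Y) (hAT : A ≤ T)
    (hA : IsElementaryAbelian 2 A) (h0 : A ≠ ⊥) (hf : A ⊓ cmod P Φ = ⊥)
    (hV : IsElementaryAbelian 2 V) (hP : P ≤ 𝐍[V]) (hPV : P ⊓ 𝐂[V] = ⊥)
    (hT : T ≤ 𝐍[V]) (hb : (𝐂[A]).relIndex V ≤ Nat.card A ^ 2) {r : ℕ} (hr : r.Prime) (r2 : r ≠ 2)
    {g : G} (g1 : g ∈ 𝐍[P]) (g2 : IsPGroup r (zpowers g)) (g4 : g ∈ 𝐍[V]) : g ∈ 𝐂[P] := by
  obtain ⟨rfl, rfl, -⟩ := h.module h3 hPp hgen hAT hA h0 hf hV hP hPV hT hb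
  have hp := h.hp
  have := Fact.mk hp
  have b1 := (h.bound hgen hAT hA h0 hf hP hT hb).1
  have hcop : (Nat.card P).Coprime (Nat.card V) :=
    IsPGroup.coprime_card_of_ne 5 2 (by norm_num) _ _ hPp hV.isPGroup
  have w1 : ⁅V, P⁆ ≤ V := comm_le_left hP
  have w2 : Nat.card ↥⁅V, P⁆ ≤ 256 := by
    have := CopAct.card_eq_card_commutator_mul_card_centralizer hV.1 hP hcop
    rw [← rI_card (𝐂[P]) V] at this
    exact (Nat.eq_of_mul_eq_mul_right Nat.card_pos this).ge.trans b1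
  have hc : Nat.card P = 5 ^ 2 := by rw [h.card_eq, card_bot, one_mul]
  have hPc : P ≤ 𝐂[P] := comm_eq_bot_iff.1 (le_bot_iff.1 h.comm)
  obtain ⟨Y₁, l1, Y₂, l2, c1, c2, n1, -, -, hg⟩ := fix_pair hp le_rfl (hV.mono w1)
    ⟨le_centralizer_iff_isMulCommutative.1 hPc, fun x hx => mem_bot.1 (h.pow x hx)⟩ hc
    (ncl_right _ _) (CopAct.commutator_inf_centralizer_eq_bot hV.1 hP hcop) w2
    (fun e => h.not_le ((le_inf le_rfl (comm_eq_bot_iff'.1 e)).trans hPV.le)) h.norm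
    (norm_comm hT h.norm)
    fun Y y1 y2 => (h.inv Y y1 (norm_of_cent (hPc.trans (cent_anti y1))) y2).imp_left le_bot_iff.1
  have key : ∀ Y : Subgroup G, Nat.card Y = 5 → g ^ 2 ^ 1 ∈ 𝐍[Y] → zpowers g ≤ 𝐂[Y] :=
    fun Y y1 y2 => cent_comm (cent_step hr hp g2 (zpowers_le.2 (mem_of_pow_mem (odd_of_pg hr r2 g2) y2))
      bot_le bot_le (by rw [relIndex_bot_left, y1]) (fun d => r2 ((Nat.prime_dvd_prime_iff_eq hr
        Nat.prime_two).1 (hr.dvd_of_dvd_pow (n := 2) d))) (by rw [card_bot]; exact hr.not_dvd_one))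
  rw [← sup_eq_of_sq hp hc l1 l2 (fun e => by rw [e, card_bot] at c1; omega) n1, ← zpowers_le]
  rcases hg g g1 (norm_comm (zpowers_le.2 g4) (zpowers_le.2 g1) (mem_zpowers g)) with a | a
  · exact le_cent_sup (key _ c1 (pow_mem (cj_eq_iff.1 a.1) _)) (key _ c2 (pow_mem (cj_eq_iff.1 a.2) _))
  · refine le_cent_sup (key _ c1 (cj_eq_iff.1 ?_)) (key _ c2 (cj_eq_iff.1 ?_))
    · rw [pow_one, sq, ← Mss.cj_cj, a.1, a.2]
    · rw [pow_one, sq, ← Mss.cj_cj, a.2, a.1]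

theorem XiD.odd3 {P T Φ : Subgroup G} (h : XiD 3 P T Φ) (hPp : IsPGroup 3 P) {r : ℕ} (hr : r.Prime)
    (r2 : r ≠ 2) (r3 : r ≠ 3) {g : G} (g1 : g ∈ 𝐍[P]) (g0 : g ∈ 𝐍[Φ])
    (g2 : IsPGroup r (zpowers g)) : g ∈ 𝐂[P] := by
  have := Fact.mk Nat.prime_three
  have := Fact.mk hr
  have n2 : ¬ r ∣ 2 := fun d => r2 ((Nat.prime_dvd_prime_iff_eq hr Nat.prime_two).1 d)
  have n3 : ¬ r ∣ 3 := fun d => r3 ((Nat.prime_dvd_prime_iff_eq hr Nat.prime_three).1 d)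
  have c1 : Nat.card Φ ∣ 3 := by
    obtain ⟨k, hk⟩ := h.card
    obtain ⟨j, hj⟩ := IsPGroup.iff_card.1 (hPp.to_le h.le)
    exact (Nat.Coprime.pow_right k (hj ▸ Nat.Coprime.pow_left j
      (by norm_num))).dvd_of_dvd_mul_left hk
  have c2 : Φ ≤ P ⊓ 𝐂[zpowers g] := le_inf h.le (cent_step hr Nat.prime_three g2 (zpowers_le.2 g0)
    bot_le bot_le (by rwa [relIndex_bot_left]) n2 (by rw [card_bot]; exact hr.not_dvd_one))
  have a1 := card_modEq_card_inf_centralizer g2 (zpowers_le.2 g1)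
  have a2 := relIndex_mul_relIndex _ _ _ c2 inf_le_left
  have a3 := rI_card Φ (P ⊓ 𝐂[zpowers g])
  rw [inf_eq_right.2 c2] at a3
  rw [h.idx] at a2
  obtain ⟨n, n1, hn⟩ := (Nat.dvd_prime_pow Nat.prime_three).1 (Dvd.intro _ a2)
  rw [h.card_eq, ← a3, hn, mul_comm] at a1
  have a4 := Nat.ModEq.cancel_right_of_coprime (Nat.Coprime.coprime_dvd_right c1
    ((Nat.coprime_primes hr Nat.prime_three).2 r3)) a1
  rw [hn] at a2
  interval_cases n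
  · exact absurd (hr.dvd_of_dvd_pow (n := 3) ((Nat.modEq_iff_dvd' (by norm_num)).1 a4.symm)) n2
  · exact absurd ((hr.dvd_mul (m := 2) (n := 3)).1 ((Nat.modEq_iff_dvd' (by norm_num)).1 a4.symm))
      (not_or.2 ⟨n2, n3⟩)
  · exact cent_comm ((relIndex_eq_one.1 (Nat.eq_of_mul_eq_mul_left (by norm_num)
      (a2.trans (mul_one _).symm))).trans inf_le_right) (mem_zpowers g)

end Cfsg.Agent.QT
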