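import Mathlib
import Cfsg.Agent.QT.XiMod3
import Cfsg.Agent.GT.TransferFrobenius
import Cfsg.Agent.GT.ExtraspecialDim

/-! # Solvable strongly quasithin groups with a normal 2-complement. -/

set_option autoImplicit false
set_option linter.unusedSectionVars false

namespace Cfsg.Agent.QT

open Cfsg Cfsg.Agent.GT Cfsg.Agent.Loc Cfsg.Agent.Loc.Mss Cfsg.Agent.Loc.Blk Subgroup
open scoped commutatorElement

variable {G : Type*} [Group G] [Finite G] {p : ℕ}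

theorem comm_cent_cyc {S X : Subgroup G} (hS : IsCyclic S) (h : X ≤ 𝐍[S]) : ⁅X, X⁆ ≤ 𝐂[S] :=
  commutator_le.2 fun _ ha _ hb => PG.commutatorElement_mem_centralizer_of_isCyclic hS (h ha) (h hb)

theorem scal_three (hp : p.Prime) {E Q Y₁ Y₂ Y₃ : Subgroup G} (hE : IsElementaryAbelian p E)
    (hc : Nat.card E = p ^ 2) (l1 : Y₁ ≤ E) (l2 : Y₂ ≤ E) (l3 : Y₃ ≤ E) (c1 : Nat.card Y₁ = p)
    (c2 : Nat.card Y₂ = p) (c3 : Nat.card Y₃ = p) (d1 : ¬ Y₂ ≤ Y₁) (d2 : ¬ Y₃ ≤ Y₁) (d3 : ¬ Y₃ ≤ Y₂)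
    (n1 : Q ≤ 𝐍[Y₁]) (n2 : Q ≤ 𝐍[Y₂]) (n3 : Q ≤ 𝐍[Y₃]) : ⁅Q, 𝐍[E]⁆ ≤ 𝐂[E] := by
  have hEc := ea_le_cent hE
  have nb : ∀ {Y : Subgroup G}, Nat.card Y = p → Y ≠ ⊥ := fun c e => by
    rw [e, card_bot] at c; exact hp.one_lt.ne c
  have z5 : ∀ {U : Subgroup G} {u : G}, Nat.card U = p → u ∈ U → u ≠ 1 → zpowers u = U :=
    fun u1 u2 u3 => (eq_or_of_prime hp u1 (zpowers_le.2 u2)).resolve_left
      fun e => u3 (zpowers_eq_bot.1 e)
  have e1 := sup_eq_of_sq hp hc l1 l2 (nb c1) d1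
  have e2 : Y₁ ⊓ Y₂ = ⊥ := (eq_or_of_prime hp c2 inf_le_right).resolve_right
    fun e => d1 (e.ge.trans inf_le_left)
  have hn := norm_of_cent (l2.trans (hEc.trans (cent_anti l1)))
  obtain ⟨w, hw, w1⟩ := (Y₃.bot_or_exists_ne_one).resolve_left (nb c3)
  obtain ⟨x, hx, y, hy, rfl⟩ := (mem_sup_norm hn).1 (e1.ge (l3 hw))
  have x1 : x ≠ 1 := fun e => d3 ((z5 c3 hw w1).ge.trans (zpowers_le.2 (by rwa [e, one_mul])))
  have y1 : y ≠ 1 := fun e => d2 ((z5 c3 hw w1).ge.trans (zpowers_le.2 (by rwa [e, mul_one])))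
  have cm : ∀ u ∈ E, ∀ v ∈ E, Commute u v := fun u hu v hv => mem_cent.1 (hEc hv) u hu
  have key : ∀ a ∈ Q, ∃ l : ℤ, ∀ e ∈ E, a * e * a⁻¹ = e ^ l := fun a ha => by
    obtain ⟨l, hl⟩ := (z5 c3 hw w1).ge (conj_mem_of_norm (n3 ha) hw)
    have a1 := conj_mem_of_norm (n1 ha) hx
    have a2 := conj_mem_of_norm (n2 ha) hy
    have a3 : (x ^ l)⁻¹ * (a * x * a⁻¹) = y ^ l * (a * y * a⁻¹)⁻¹ := by
      calc _ = (x ^ l)⁻¹ * (a * (x * y) * a⁻¹) * (a * y * a⁻¹)⁻¹ := by group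
        _ = _ := by rw [← hl]; dsimp only; rw [(cm x (l1 hx) y (l2 hy)).mul_zpow]; group
    have a4 : (x ^ l)⁻¹ * (a * x * a⁻¹) = 1 := mem_bot.1 (e2.le (mem_inf.2
      ⟨mul_mem (inv_mem (zpow_mem hx l)) a1, a3 ▸ mul_mem (zpow_mem hy l) (inv_mem a2)⟩))
    refine ⟨l, fun e he => ?_⟩
    obtain ⟨u, hu, v, hv, rfl⟩ := (mem_sup_norm hn).1 (e1.ge he)
    rw [(cm u (l1 hu) v (l2 hv)).mul_zpow]
    obtain ⟨i, rfl⟩ := (z5 c1 hx x1).ge hu
    obtain ⟨j, rfl⟩ := (z5 c2 hy y1).ge hv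
    dsimp only
    calc a * (x ^ i * y ^ j) * a⁻¹ = (a * x * a⁻¹) ^ i * (a * y * a⁻¹) ^ j := by
          rw [conj_zpow, conj_zpow]; group
      _ = _ := by
          rw [← inv_mul_eq_one.1 a4, ← mul_inv_eq_one.1 (a3.symm.trans a4), ← zpow_mul, ← zpow_mul,
            ← zpow_mul, ← zpow_mul, mul_comm l, mul_comm l]
  refine commutator_le.2 fun a ha b hb => mem_cent.2 fun e he => ?_
  obtain ⟨l, hl⟩ := key a ha
  obtain ⟨m, hm⟩ := key a⁻¹ (inv_mem ha)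
  have b1 := hm _ (conj_mem_of_norm (inv_mem hb) he)
  have b2 := hm e he
  rw [conj_zpow, ← b2] at b1
  calc e * ⁅a, b⁆ = a * b * (b⁻¹ * (a⁻¹ * e * a⁻¹⁻¹) * b⁻¹⁻¹) * a⁻¹ * b⁻¹ := by
        rw [commutatorElement_def]; group
    _ = _ := by rw [← b1, commutatorElement_def]; group

theorem scal (hp : p.Prime) (h2 : p ≠ 2) {E Q Y : Subgroup G} (hE : IsElementaryAbelian p E)
    (hc : Nat.card E = p ^ 2) (hQ : IsPGroup 2 Q) (q1 : Q ≤ 𝐍[E]) (l1 : Y ≤ E) (c1 : Nat.card Y = p)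
    (n1 : Q ≤ 𝐍[Y]) {g : G} (g1 : g ∈ 𝐍[E]) (g2 : g ∈ 𝐍[Q]) (g3 : (orderOf g).Coprime 2) :
    ⁅Q, zpowers g⁆ ≤ 𝐂[E] := by
  have := Fact.mk hp
  by_cases g4 : g ∈ 𝐍[Y]
  · set S := ⁅Q, zpowers g⁆
    have s1 : S ≤ Q := comm_le_left (zpowers_le.2 g2)
    have key : ∀ U : Subgroup G, Nat.card U = p → Q ≤ 𝐍[U] → zpowers g ≤ 𝐍[U] → S ≤ 𝐂[U] :=
      fun U u1 u2 u3 => (commutator_mono le_sup_left le_sup_right).trans
        (comm_cent_cyc (isCyclic_of_prime_card u1) (sup_le u2 u3))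
    have s2 : ⁅E, S⁆ ⊓ 𝐂[S] = ⊥ := CopAct.commutator_inf_centralizer_eq_bot hE.1 (s1.trans q1)
      (IsPGroup.coprime_card_of_ne 2 p h2.symm _ _ (hQ.to_le s1) hE.isPGroup)
    by_contra hn
    have s3 : ⁅E, S⁆ ≠ ⊥ := fun e => hn (comm_eq_bot_iff'.1 e)
    refine s3 (eq_bot_iff.2 ((le_inf le_rfl (cent_comm (key _ (card_of_sq hp hc
      (comm_le_left (s1.trans q1)) s3 fun e => ?_) (norm_comm q1 (ncl_left _ _))
      (norm_comm (zpowers_le.2 g1) (ncl_right _ _))))).trans s2.le))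
    rw [eq_bot_iff.2 ((le_inf (l1.trans e.ge) (cent_comm (key Y c1 n1 (zpowers_le.2 g4)))).trans
      s2.le), card_bot] at c1
    exact hp.one_lt.ne c1
  have n : ∀ x ∈ 𝐍[Q], Q ≤ 𝐍[cj(x, Y)] := fun x hx => by
    rw [← Mss.cj_norm, ← cj_of_norm hx]; exact cj_mono x n1
  refine (commutator_mono le_rfl (zpowers_le.2 g1)).trans (scal_three hp hE hc l1
    (cj_le_of_norm l1 g1) (cj_le_of_norm l1 (mul_mem g1 g1)) c1 ((Mss.card_cj Y _).trans c1)
    ((Mss.card_cj Y _).trans c1) (fun l => g4 (mem_norm_of_cj_le l)) (fun l => g4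
      (mem_of_pow_mem (k := 1) g3 (by rw [pow_one, sq]; exact mem_norm_of_cj_le l)))
    (fun l => g4 (mem_norm_of_cj_le (by rwa [← Mss.cj_cj, cj_le_cj] at l))) n1 (n g g2)
    (n _ (mul_mem g2 g2)))

theorem nil_two {H : Type*} [Group H] [Finite H] [Group.IsSolvable H] (hO : pCore 2 H = ⊥)
    (hS : IsStronglyQuasithin H) (P : Sylow 2 H)
    (hX : ∀ (s : ℕ) (E Φ : Subgroup H), E.Normal → Φ.Normal → XiD s E P Φ → (∀ x ∈ E, x ^ s = 1) →
      (∀ Y ≤ E, Φ ⊔ Y = E → E ≤ Y) → ∀ q : ℕ, q.Prime → q ≠ 2 → ∀ g : H, IsPGroup q (zpowers g) →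
        g ∈ cmod E Φ) : HasNormalPComplement 2 H := by
  refine Tr.frobenius_of_primePow P fun Q hQ _ q hq q2 g g1 ⟨k, hk⟩ => ?_
  have g2 : IsPGroup q (zpowers g) := isPGroup_zpowers_of_orderOf_eq hk
  have g3 := odd_of_pg hq q2 g2
  have hQ' := P.2.to_le hQ
  set S := ⁅Q, zpowers g⁆ with hSd
  have s1 : S ≤ Q := comm_le_left (zpowers_le.2 g1)
  refine comm_eq_bot_iff'.1 (le_bot_iff.1 (hO ▸ le_pCore_of_le_fitting (hQ'.to_le s1)
    (le_trans (cent_comm (fitting_le_iff.2 fun r hr => ?_)) centralizer_fitting_le))) (mem_zpowers g)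
  by_cases r2 : r = 2
  · rw [r2, hO]; exact bot_le
  have := Fact.mk hr
  set R := pCore r H
  obtain ⟨D, hc, -, -, he, -, hf, -⟩ := PG.exists_critical_exponent_p r2 (isPGroup_pCore (G := H) r)
  set E := D.map R.subtype
  have hEn : E.Normal := inferInstance
  have hE : IsPGroup r E := ((isPGroup_pCore r).to_subgroup D).map _
  have he' : ∀ x ∈ E, x ^ r = 1 := by
    rintro _ ⟨x, hx, rfl⟩
    exact congrArg R.subtype (he x hx)
  have h2' : PRankLE r 2 E := (hS r hr r2).subgroup _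
  have h3 := S3771.result hE h2' fun x => Subtype.ext (he' x x.2)
  set Φ := (frattini E).map E.subtype with hΦ
  have hΦn : Φ.Normal := inferInstance
  have f1 : Φ ≤ E := map_subtype_le _
  obtain ⟨f2, f3⟩ := (PG.map_frattini_subtype_le_iff hE).1 hΦ.ge
  have f4 := rI_card Φ E
  rw [inf_eq_right.2 f1] at f4
  have hcop : ∀ U ≤ E, (Nat.card S).Coprime (Nat.card U) := fun U u =>
    IsPGroup.coprime_card_of_ne 2 r (Ne.symm r2) _ _ (hQ'.to_le s1) (hE.to_le u)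
  suffices h : ⁅E, S⁆ ≤ Φ by
    have h1 := S0029.result S E (norm_normal _ _) (by
      rw [← card_map_of_injective E.subtype_injective]; exact hcop _ f1) fun a ha x hx => by
        rw [← commutatorElement_def, ← inv_mem_iff, commutatorElement_inv]
        exact h (commutator_mem_commutator hx ha)
    refine cent_comm fun a ha x hx => ?_
    have h4 := hf (MulAut.conjNormal a) (Nat.Coprime.coprime_dvd_left (orderOf_map_dvd _ a) (by
      obtain ⟨n, hn⟩ := (IsPGroup.iff_orderOf.1 (hQ'.to_le s1)) ⟨a, ha⟩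
      rw [← Subgroup.orderOf_coe] at hn
      exact hn ▸ ((Nat.coprime_primes Nat.prime_two hr).2 (Ne.symm r2)).pow_left n)) fun x hx =>
        Subtype.ext (by rw [MulAut.conjNormal_apply, ← h1 ha x ⟨x, hx, rfl⟩]; group)
    have := congrArg Subtype.val (DFunLike.congr_fun h4 ⟨x, hx⟩)
    rw [MulAut.conjNormal_apply] at this
    exact (mul_inv_eq_iff_eq_mul.1 this).symm
  by_cases hcy : IsCyclic E
  · rw [comm_eq_bot_iff'.2 ((commutator_mono le_top le_top).trans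
      (comm_cent_cyc hcy (norm_normal _ _)))]
    exact bot_le
  have i1 : Φ.relIndex E = r ^ 2 ∧ Nat.card Φ ∣ r := by
    have a1 := PG.sq_dvd_index_frattini_of_not_isCyclic hE hcy
    rw [PG.index_frattini_eq_relIndex] at a1
    obtain ⟨n, hn⟩ := IsPGroup.iff_card.1 (hE.to_le f1)
    obtain ⟨m, hm⟩ := hE.index (Φ.subgroupOf E)
    change Φ.relIndex E = _ at hm
    rw [← f4, hm, hn, ← pow_add, Nat.pow_le_pow_iff_right hr.one_lt] at h3
    rw [hm, Nat.pow_dvd_pow_iff_le_right hr.one_lt] at a1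
    have a2 : m ≠ 3 := fun e => by
      have a3 : Φ = ⊥ := card_eq_one.1 (by rw [hn, show n = 0 by omega, pow_zero])
      have a4 := (hS r hr r2).card_le (A := E) ⟨le_centralizer_iff_isMulCommutative.1
        (comm_eq_bot_iff.1 (le_bot_iff.1 (a3 ▸ f2))), he'⟩
      rw [← f4, hm, hn, ← pow_add, Nat.pow_le_pow_iff_right hr.one_lt] at a4
      omega
    refine ⟨by rw [hm, show m = 2 by omega], ?_⟩
    rw [hn]
    exact (pow_dvd_pow r (by omega : n ≤ 1)).trans (pow_one r).dvd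
  have hgen : ∀ Y ≤ E, Φ ⊔ Y = E → E ≤ Y := fun Y y1 y2 => by
    have b1 : Y.subgroupOf E = ⊤ := frattini_nongenerating (map_injective E.subtype_injective (by
      rw [Subgroup.map_sup, map_subgroupOf_eq_of_le y1, Mss.map_subtype_top, sup_comm]
      exact y2))
    exact subgroupOf_eq_top.1 b1
  by_cases irr : ∀ Y ≤ E, (P : Subgroup H) ≤ 𝐍[Y] → Y ≤ Φ ∨ Φ ⊔ Y = E
  · have b1 := hX r E Φ hEn hΦn ⟨hr, r2, res_eq_self_of_coprime (by
      obtain ⟨n, hn⟩ := IsPGroup.iff_card.1 hE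
      exact hn ▸ ((Nat.coprime_primes hr Nat.prime_two).2 r2).pow_left n), norm_normal _ _, f1,
      norm_normal _ _, f2, f3, i1.1, ⟨0, by simpa using i1.2⟩, fun Y y1 _ y3 =>
        (irr Y y1 y3).imp_right fun e => le_antisymm y1 (hgen Y y1 e)⟩ he' hgen q hq q2 g g2
    exact (le_cmod.1 ((commutator_mono le_rfl (zpowers_le.2 b1)).trans (comm_le_right
      (norm_cmod (norm_normal _ _) (norm_normal _ _))))).2
  push Not at irr
  obtain ⟨Y, y1, y2, y3, y4⟩ := irr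
  set π := QuotientGroup.mk' Φ
  have hk' : π.ker = Φ := QuotientGroup.ker_mk' _
  have e0 : Φ.map π = ⊥ := (Subgroup.map_eq_bot_iff _).2 hk'.ge
  have c1 : Nat.card (E.map π) = r ^ 2 := by
    rw [← relIndex_bot_left, ← e0, relIndex_map_of_ker π f1 (inf_le_right.trans hk'.le), i1.1]
  have b1 := scal hr r2 (E := E.map π) (Q := Q.map π) (Y := Y.map π) (g := π g)
    ⟨le_centralizer_iff_isMulCommutative.1 (comm_eq_bot_iff.1 (by
      rw [← Subgroup.map_commutator, Subgroup.map_eq_bot_iff, hk']; exact f2)), by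
        rintro _ ⟨x, hx, rfl⟩
        rw [← map_pow, he' x hx, map_one]⟩ c1 (hQ'.map π) (map_norm_le π (norm_normal _ _))
    (map_mono y1) (card_of_sq hr c1 (map_mono y1)
      (fun e => y3 (hk' ▸ (Subgroup.map_eq_bot_iff _).1 e)) fun e => y4 (le_antisymm (sup_le f1 y1) (by
        have := Subgroup.map_le_map_iff.1 e.ge
        rwa [hk', sup_comm] at this)))
    (map_norm_le π (hQ.trans y2)) (map_norm_le π (norm_normal ⊤ E) ⟨g, mem_top g, rfl⟩)
    (map_norm_le π (zpowers_le.2 g1) ⟨g, mem_zpowers g, rfl⟩)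
    (Nat.Coprime.coprime_dvd_left (orderOf_map_dvd π g) g3)
  rwa [← MonoidHom.map_zpowers, ← Subgroup.map_commutator, ← comm_eq_bot_iff',
    ← Subgroup.map_commutator, Subgroup.map_eq_bot_iff, hk'] at b1

end Cfsg.Agent.QT
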