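import Mathlib
import Cfsg.Agent.S1824
import Cfsg.Agent.QT.XiMod3

/-! # Odd elements act trivially on the Frattini quotient of a faithful solvable uniqueness group. -/

set_option autoImplicit false
set_option linter.unusedSectionVars false

namespace Cfsg.Agent.QT

open Cfsg Cfsg.Agent.GT Cfsg.Agent.Loc Cfsg.Agent.Loc.Mss Cfsg.Agent.Loc.Blk Cfsg.Agent.Loc.BH
  Subgroup
open scoped commutatorElement

variable {G : Type*} [Group G] [Finite G] {p : ℕ}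

theorem exists_part {M N R : Subgroup G} (hN : M ≤ 𝐍[N]) (hNM : N ≤ M) (hR : Syl 2 R N) {r : ℕ}
    (hr : r.Prime) {g : G} (g1 : g ∈ M) (g2 : IsPGroup r (zpowers g)) :
    ∃ k ∈ M, k ∈ 𝐍[R] ∧ IsPGroup r (zpowers k) ∧ (k ∈ N → g ∈ N) := by
  obtain ⟨n, n1, k, k1, rfl⟩ := hR.frattini (hN g1)
  have k2 : k ∈ M := (M.mul_mem_cancel_left (hNM n1)).1 g1
  obtain ⟨c, hc⟩ := g2 ⟨_, mem_zpowers _⟩
  have k4 : k ^ r ^ c ∈ N := by
    have := normal_subgroupOf_of_le_normalizer hN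
    have e : (((⟨n * k, g1⟩ : M) : M ⧸ N.subgroupOf M)) = (⟨k, k2⟩ : M) := by
      rw [eq_comm, QuotientGroup.eq_iff_div_mem]
      change k / (n * k) ∈ N
      rw [div_mul_eq_div_div_swap, div_self', one_div]
      exact inv_mem n1
    have e2 : (⟨n * k, g1⟩ ^ r ^ c : M) ∈ N.subgroupOf M := by
      change (n * k) ^ r ^ c ∈ N
      rw [show (n * k) ^ r ^ c = 1 from congrArg Subtype.val hc]
      exact one_mem _
    rw [← QuotientGroup.eq_one_iff, QuotientGroup.mk_pow, e, ← QuotientGroup.mk_pow,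
      QuotientGroup.eq_one_iff] at e2
    exact e2
  obtain ⟨a, b, ab1, ab2⟩ := Nat.exists_eq_pow_mul_and_not_dvd (orderOf_pos k).ne' r hr.ne_one
  have h1 : (k ^ b) ^ r ^ a = 1 := by rw [← pow_mul, mul_comm, ← ab2, pow_orderOf_eq_one]
  refine ⟨k ^ b, pow_mem k2 b, pow_mem k1 b, fun ⟨x, z, hz⟩ => ⟨a, Subtype.ext ?_⟩, fun k5 => ?_⟩
  · change x ^ r ^ a = 1
    rw [← hz, ← zpow_natCast, ← zpow_mul, mul_comm, zpow_mul, zpow_natCast, h1, one_zpow]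
  obtain ⟨u, v, e⟩ := Nat.isCoprime_iff_coprime.2 ((hr.coprime_iff_not_dvd.2 ab1).pow_left c)
  refine mul_mem n1 ?_
  rw [← zpow_one k, ← e, zpow_add, mul_comm u, mul_comm v, zpow_mul, zpow_mul, zpow_natCast,
    zpow_natCast]
  exact mul_mem (zpow_mem k4 u) (zpow_mem k5 v)

theorem xi_odd [IsSimpleGroup G] (hG : ¬ IsMulCommutative G) (hQ : IsQTKE G) (T : Sylow 2 G)
    {X Φ : Subgroup G} (hD : XiD p X T Φ) (hO : pCoreOf 2 X ≤ Φ)
    (hexp : ∀ x ∈ X, x ^ p ∈ pCoreOf 2 X) (hgen : ∀ Y ≤ X, Φ ⊔ Y = X → X ≤ Y ⊔ pCoreOf 2 X)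
    (hNΦ : 𝐍[X] ≤ 𝐍[Φ]) (hu : maxTwoLocalsContaining (X ⊔ (T : Subgroup G)) = {𝐍[X]})
    (hT : ∃ M₁ M₂ : Subgroup G, M₁ ∈ maxTwoLocalsContaining (T : Subgroup G) ∧
      M₂ ∈ maxTwoLocalsContaining (T : Subgroup G) ∧ M₁ ≠ M₂)
    (hnc : ¬ X ≤ 𝐂[ΩZ[2, pCoreOf 2 (X ⊔ (T : Subgroup G))]]) {r : ℕ} (hr : r.Prime) (r2 : r ≠ 2)
    {g : G} (g1 : g ∈ 𝐍[X]) (g2 : IsPGroup r (zpowers g)) : g ∈ cmod X Φ := by
  have hp := hD.hp
  have := Fact.mk hp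
  have hS := Syl.of_sylow T
  have hcore := hD.core hS hgen
  set M := 𝐍[X] with hMd
  set M₀ := X ⊔ (T : Subgroup G) with hM₀
  set R := pCoreOf 2 M₀ with hRd
  set V := ΩZ[2, R] with hVd
  have hM : M ∈ maxTwoLocalsContaining M₀ := hu ▸ rfl
  have hTM₀ : (T : Subgroup G) ≤ M₀ := le_sup_right
  have hXM₀ : X ≤ M₀ := le_sup_left
  have hS₀ := hS.mono hTM₀ le_top
  have hRT : R ≤ T := hS₀.core_le
  have hOR : pCoreOf 2 X ≤ R := le_core_of_norm (pg_core X) ((core_le X).trans hXM₀) (norm_core hM.2)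
  have hV : IsElementaryAbelian 2 V := ea_oz R
  have hMV : M₀ ≤ 𝐍[V] := norm_oz (le_norm_core M₀)
  have hXV := hXM₀.trans hMV
  have hTV := hTM₀.trans hMV
  have hRV : R ≤ 𝐂[V] := le_cent_oz R
  have hres : pResidualOf 2 M₀ = X := (res_sup_eq hD.norm hS.pg).trans hD.res
  have key : ∀ N, M₀ ≤ 𝐍[N] → ¬ X ≤ N → X ⊓ N ≤ Φ ∧ (T : Subgroup G) ⊓ N ≤ R := fun N n1 n2 => by
    have a1 : X ⊓ N ≤ Φ := (hD.inv _ inf_le_left (norm_inf le_normalizer (hXM₀.trans n1))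
      (norm_inf hD.norm (hTM₀.trans n1))).resolve_right fun e => n2 (e.ge.trans inf_le_right)
    refine ⟨a1, (le_inf inf_le_left (le_cmod.2 ⟨inf_le_left.trans hD.normΦ, le_trans (le_inf
      (comm_le_left (inf_le_left.trans hD.norm)) ((commutator_mono le_rfl inf_le_right).trans
        (comm_le_right (hXM₀.trans n1)))) a1⟩)).trans hcore⟩
  obtain ⟨hXC, hTC⟩ := key _ (norm_cent hMV) hnc
  obtain ⟨H, hH⟩ : ∃ H, H ∈ calHMin (T : Subgroup G) M := by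
    obtain ⟨M', m1, m2⟩ : ∃ M' ∈ maxTwoLocalsContaining (T : Subgroup G), M' ≠ M := by
      obtain ⟨M₁, M₂, m1, m2, m3⟩ := hT
      by_cases e : M₁ = M
      · exact ⟨M₂, m2, fun e' => m3 (e.trans e'.symm)⟩
      · exact ⟨M₁, m1, e⟩
    obtain ⟨H, -, h2⟩ := Finite.exists_le_minimal (p := (· ∈ calHOverNotLE (T : Subgroup G) M))
      (a := M') ⟨⟨mem_calH_of_isTwoLocal m1.1.1, m1.2⟩, fun l => m2 (m1.1.2 M hM.1.1 l).symm⟩
    exact ⟨H, h2.1, fun K k1 k2 => le_antisymm k2 (h2.2 k1 k2)⟩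
  have hR2 : V ∈ calR2 M₀ := by
    refine ⟨(oz_le R).trans (core_le _), hMV, hV, fun N n1 n2 n3 ⟨k, hk⟩ => le_antisymm ?_ n3⟩
    have a1 : pResidualOf 2 N ≤ M₀ ⊓ 𝐂[V] := res_le_of_pow fun x hx => ⟨k, by
      have := normal_subgroupOf_of_le_normalizer
        (n1.trans (norm_inf le_normalizer (norm_cent hMV)))
      exact hk ▸ ((M₀ ⊓ 𝐂[V]).subgroupOf N).pow_index_mem ⟨x, hx⟩⟩
    exact (hS₀.inf n1 (hTM₀.trans n2)).le_of_res_le a1 ((key N n2 fun l => hnc (hD.res.ge.trans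
      ((res_mono l).trans (a1.trans inf_le_right)))).2.trans (le_inf (core_le _) hRV))
  obtain ⟨B, b1, b2, b3⟩ : ∃ B ≤ M₀, InducesElemAbelianTwoGroupOn B V ∧
      (V ⊓ 𝐂[B]).relIndex V ≤ ((𝐂[V]).relIndex B) ^ 2 := by
    rcases S1824.result hG hQ T M M₀ H V ⟨hM.1, hTM₀.trans hM.2⟩ hTM₀ hM.2 hH hR2
      (le_antisymm (le_inf hRT hRV) hTC) (Or.inl (by
        rw [oddGenerated_eq_pResidualOf, hres]; exact inf_le_right)) with
      ⟨U, u1, u2, u3⟩ | ⟨-, B, b1, b2, -, b3⟩ | ⟨B, b1, b2, -, b3⟩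
    · obtain ⟨N, n1, n2⟩ := exists_maxTwoLocal_ge ⟨U, (pg_core M₀).to_le u2, u1, rfl⟩
      have n3 : N ∈ maxTwoLocalsContaining M₀ := ⟨n1, le_sup_left.trans (u3.trans n2)⟩
      rw [hu] at n3
      exact absurd (le_sup_right.trans (u3.trans (n2.trans n3.le))) hH.1.2
    · exact ⟨B, b1, b2, b3⟩
    · exact ⟨B, b1, b2, b3⟩
  have hBV := b1.trans hMV
  have hΦV := hD.le.trans hXV
  have hD' : XiD p (FF.bar V X) (FF.bar V T) (FF.bar V Φ) := (hD.subgroupOf hXV hTV).map (FF.th V)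
    (by rw [FF.th_ker]; exact fun x hx => hXC ⟨hx.1, hx.2⟩)
  have hA : IsElementaryAbelian 2 (FF.bar V B) := by
    refine ea_of_comm (fun x hx y hy => ?_) fun x hx => ?_
    · obtain ⟨x, x1, x2, rfl⟩ := FF.mem_bar.1 hx
      obtain ⟨y, y1, y2, rfl⟩ := FF.mem_bar.1 hy
      rw [← commutatorElement_eq_one_iff_mul_comm, ← FF.tf_commutator x2 y2]
      exact (FF.tf_eq_one_iff (mul_mem (mul_mem (mul_mem x2 y2) (inv_mem x2)) (inv_mem y2))).2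
        (b2.2.2 x x1 y y1)
    · obtain ⟨x, x1, x2, rfl⟩ := FF.mem_bar.1 hx
      rw [← FF.tf_pow x2, FF.tf_eq_one_iff (pow_mem x2 _)]
      exact b2.2.1 x x1
  have hb : ∀ U ≤ 𝐍[V], FF.bar V U ≤ 𝐍[FF.lo V V] := fun U u =>
    (FF.bar_le_normalizer_lo_iff le_rfl u).2 u
  obtain ⟨m, m1, m2⟩ := ((hS₀.subgroupOf hMV).map (FF.th V)).conj_le hA.isPGroup (FF.bar_mono b1)
  have hback : ∀ U ≤ X, Φ ≤ U → ∀ W ≤ X, FF.bar V W ≤ FF.bar V U → W ≤ U := fun U u1 u2 W w1 w2 => by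
    rw [FF.bar_le_bar_iff (w1.trans hXV) (u1.trans hXV)] at w2
    refine (le_inf w2 w1).trans ?_
    rw [sup_comm, dedekind' ((u1.trans hXV).trans (norm_cent le_rfl)) u1, inf_comm]
    exact sup_le (hXC.trans u2) le_rfl
  have hexp' : ∀ x ∈ FF.bar V X, x ^ p = 1 := fun x hx => by
    obtain ⟨x, x1, x2, rfl⟩ := FF.mem_bar.1 hx
    rw [← FF.tf_pow x2, FF.tf_eq_one_iff (pow_mem x2 _)]
    exact hRV (hOR (hexp x x1))
  have hPp : IsPGroup p (FF.bar V X) := pg_iff.2 fun x hx => ⟨1, by rw [pow_one, hexp' x hx]⟩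
  have hgen' : ∀ Y ≤ FF.bar V X, FF.bar V Φ ⊔ Y = FF.bar V X → FF.bar V X ≤ Y := fun Y y1 y2 => by
    rw [← FF.bar_unbar_inf y1] at y2 ⊢
    rw [← FF.bar_sup hΦV (inf_le_left.trans hXV)] at y2
    have y3 := hgen _ inf_le_left (le_antisymm (sup_le hD.le inf_le_left)
      (hback _ (sup_le hD.le inf_le_left) le_sup_left X le_rfl y2.ge))
    exact (FF.bar_le_bar_iff hXV (inf_le_left.trans hXV)).2
      (y3.trans (sup_le_sup_left (hOR.trans hRV) _))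
  have hcm : ∀ t ∈ 𝐍[X], t ∈ 𝐍[V] → FF.tf V t ∈ cmod (FF.bar V X) (FF.bar V Φ) → t ∈ cmod X Φ :=
    fun t t1 t2 ht => ⟨hNΦ t1, fun x hx => by
      have t3 : zpowers ⁅x, t⁆ ≤ X := zpowers_le.2 (comm_le_left (zpowers_le.2 t1)
        (commutator_mem_commutator hx (mem_zpowers t)))
      refine hback Φ hD.le le_rfl _ t3 ?_ (mem_zpowers _)
      rw [FF.bar_zpowers (hXV (t3 (mem_zpowers _))), zpowers_le, FF.tf_commutator (hXV hx) t2]
      exact ht.2 _ (FF.tf_mem_bar hXV hx)⟩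
  set A := cj(m, FF.bar V B) with hAd
  have hA' : IsElementaryAbelian 2 A := ea_map _ hA
  have hA0 : A ≠ ⊥ := mt Mss.cj_eq_bot.1 (mt (FF.bar_eq_bot_iff hBV).1 b2.1)
  have hf : A ⊓ cmod (FF.bar V X) (FF.bar V Φ) = ⊥ := eq_bot_iff.2 fun t ht => by
    obtain ⟨t, t1, t2, rfl⟩ := FF.mem_bar.1 (m2 ht.1)
    exact (FF.tf_eq_one_iff t2).2 (hRV (hcore ⟨t1, hcm t (hD.norm t1) t2 ht.2⟩))
  have hi : (𝐂[A]).relIndex (FF.lo V V) ≤ Nat.card A ^ 2 := by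
    rw [relIndex_cent_cj, cj_of_norm (inv_mem (hb M₀ hMV m1)), Mss.card_cj, FF.card_bar hBV]
    refine le_trans (le_of_eq ?_) b3
    have e1 := rI_card (𝐂[FF.bar V B]) (FF.lo V V)
    rw [FF.lo_inf_centralizer le_rfl hBV, FF.card_lo inf_le_left, FF.card_lo le_rfl,
      ← rI_card (𝐂[B]) V] at e1
    rw [inf_relIndex_left]
    exact Nat.eq_of_mul_eq_mul_right Nat.card_pos e1
  have hV' := FF.isElementaryAbelian_lo hV
  set N := M ⊓ cmod X Φ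
  have hN : M ≤ 𝐍[N] := norm_inf le_normalizer (norm_cmod le_rfl hNΦ)
  have hNR : (T : Subgroup G) ⊓ N = R := le_antisymm
    ((inf_le_inf_left _ inf_le_right).trans hcore)
    (le_inf hRT (le_inf (hRT.trans hD.norm) (le_cmod.2 ⟨hRT.trans hD.normΦ,
      (le_core_of_norm ((pg_core M₀).to_le (comm_le_right (hXM₀.trans (le_norm_core _))))
        (comm_le_left (hRT.trans hD.norm)) (ncl_left _ _)).trans hO⟩)))
  have hRN := hS.inf le_top (hD.norm.trans hN)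
  rw [hNR] at hRN
  obtain ⟨k, k1, k2, k3, k4⟩ := exists_part hN inf_le_left hRN hr g1 g2
  refine (k4 ⟨k1, ?_⟩).2
  have k5 : k ∈ 𝐍[V] := norm_oz le_rfl k2
  have kb : ∀ U ≤ X, k ∈ 𝐍[U] → FF.tf V k ∈ 𝐍[FF.bar V U] := fun U u1 u2 =>
    FF.bar_le_normalizer (zpowers_le.2 k5) (u1.trans hXV) (zpowers_le.2 u2)
      (FF.tf_mem_bar (zpowers_le.2 k5) (mem_zpowers _))
  have k6 : IsPGroup r (zpowers (FF.tf V k)) := FF.bar_zpowers k5 ▸ FF.isPGroup_bar k3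
  have k7 := (FF.tf_mem_normalizer_lo_iff le_rfl k5).2 k5
  have fin : FF.tf V k ∈ 𝐂[FF.bar V X] → k ∈ cmod X Φ := fun l => hcm k k1 k5
    ⟨kb Φ hD.le (hNΦ k1), fun x hx => by
      rw [commutatorElement_eq_one_iff_mul_comm.2 (mem_cent.1 l x hx)]; exact one_mem _⟩
  by_cases h3 : p = 3
  swap
  · exact fin (hD'.odd5 h3 hPp hgen' m2 hA' hA0 hf hV' (hb X hXV) FF.bar_inf_centralizer (hb T hTV) hi
      hr r2 (kb X le_rfl k1) k6 k7)
  subst h3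
  by_cases r3 : r = 3
  swap
  · exact fin (hD'.odd3 hPp hr r2 r3 (kb X le_rfl k1) (kb Φ hD.le (hNΦ k1)) k6)
  subst r3
  obtain ⟨c1, c2⟩ := hD'.bound hgen' m2 hA' hA0 hf (hb X hXV) (hb T hTV) hi
  by_cases h0 : FF.bar V Φ = ⊥
  · rw [h0] at hD' hf
    have hPc := comm_eq_bot_iff.1 (le_bot_iff.1 hD'.comm)
    refine fin (flat3 ⟨le_centralizer_iff_isMulCommutative.1 hPc, hexp'⟩
      (by rw [hD'.card_eq, card_bot, one_mul]) hD'.norm (fun Y y1 y2 => (hD'.inv Y y1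
        (norm_of_cent (hPc.trans (cent_anti y1))) y2).imp_left le_bot_iff.1) m2 hA'
      (eq_bot_iff.2 (le_trans (inf_le_inf_left _ (le_cmod.2 ⟨norm_normal _ _,
        (comm_eq_bot_iff'.2 le_rfl).le⟩)) hf.le)) c2 hV' (hb X hXV) FF.bar_inf_centralizer
      (hb T hTV) hi (kb X le_rfl k1) k6 k7)
  by_contra kn
  obtain ⟨E, e1, e2, u, u1, u2, u3⟩ := hD'.extra3 hexp' hgen' h0 hV' (hb X hXV)
    FF.bar_inf_centralizer (hb T hTV) c1 (kb X le_rfl k1) (kb Φ hD.le (hNΦ k1)) k6 k7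
  obtain ⟨J, j1, j2⟩ := Syl.exists_ge k3 (le_sup_right : zpowers k ≤ X ⊔ zpowers k)
  have j3 : J ≤ M := j2.le.trans (sup_le le_normalizer (zpowers_le.2 k1))
  have j4 : J ≤ 𝐍[V] := j2.le.trans (sup_le hXV (zpowers_le.2 k5))
  have j5 := j2.inf le_sup_left j3
  have p1 : J ⊓ X ⊓ 𝐂[V] = ⊥ := by
    refine eq_bot_of_coprime (L := Φ ⊓ 𝐂[V]) j5.pg.to_inf_left
      (le_inf ((inf_le_inf_right _ inf_le_right).trans hXC) inf_le_right)
      (Nat.prime_three.coprime_iff_not_dvd.2 fun d => ?_).symm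
    obtain ⟨n, hn⟩ := hD.card
    have d1 := Nat.mul_dvd_mul ((hPp.to_le hD'.le).card_eq_or_dvd.resolve_left
      fun e => h0 (card_eq_one.1 e)) d
    rw [FF.card_bar_mul hΦV] at d1
    exact absurd (Nat.prime_three.dvd_of_dvd_pow (Nat.dvd_of_mul_dvd_mul_right (by norm_num)
      (d1.trans hn))) (by norm_num)
  have p2 : FF.bar V (J ⊓ X) = FF.bar V X :=
    ((j5.subgroupOf hXV).map (FF.th V)).eq_of_le hPp (FF.bar_mono inf_le_right) le_rfl |>.symm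
  rw [← p2] at e1 u1 u3
  obtain ⟨u, u4, u5, rfl⟩ := FF.mem_bar.1 u1
  rw [← FF.tf_mul u5 k5] at u2 u3
  set y := u * k with hy
  have y1 : y ∈ J := mul_mem u4.1 (j1 (mem_zpowers k))
  have y2 : y ∉ X := fun l => kn (le_cmod.2 ⟨hD.normX le_rfl hD.le, hD.comm⟩
    ((X.mul_mem_cancel_left u4.2).1 l))
  set E₀ := J ⊓ X ⊓ FF.unbar V E
  have f1 : FF.bar V E₀ = E := FF.bar_unbar_inf e1
  have f2 : E₀ ≤ 𝐍[V] := inf_le_left.trans (inf_le_left.trans j4)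
  have f3 : Nat.card E₀ = 3 ^ 2 := by
    rw [← FF.card_bar_mul f2, f1, e2, eq_bot_iff.2 ((inf_le_inf_right _ inf_le_left).trans p1.le),
      card_bot, mul_one]
  have f4 : ∀ x ∈ J ⊓ X, FF.tf V x = 1 → x = 1 := fun x x1 x2 =>
    mem_bot.1 (p1.le ⟨x1, (FF.tf_eq_one_iff (j4 x1.1)).1 x2⟩)
  have f5 : ∀ x ∈ E₀, x ^ 3 = 1 := fun x hx => f4 _ (pow_mem hx.1 3) (by
    rw [FF.tf_pow (f2 hx)]; exact hexp' _ (FF.tf_mem_bar hXV hx.1.2))
  have f6 : y ∈ 𝐂[E₀] := mem_cent.2 fun x hx => commutatorElement_eq_one_iff_mul_comm.1 (f4 _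
    (comm_le_left (norm_inf le_normalizer j3) (commutator_mem_commutator hx.1 y1)) (by
      rw [FF.tf_commutator (f2 hx) (j4 y1), commutatorElement_eq_one_iff_mul_comm]
      exact mem_cent.1 u2 _ (f1 ▸ FF.tf_mem_bar f2 hx)))
  obtain ⟨n, hn⟩ := (IsPGroup.iff_orderOf.1 j2.pg) ⟨y, y1⟩
  rw [← Subgroup.orderOf_coe] at hn
  change orderOf y = _ at hn
  have y3 : ∀ n, y ^ 3 ^ (n + 1) = 1 → y ^ 3 ^ n ∈ E₀ := fun n hn => by
    have l1 : E₀ ≤ M := inf_le_left.trans (inf_le_left.trans j3)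
    have := mem_of_rank_two (Y := E₀.subgroupOf M) (x := ⟨y ^ 3 ^ n, pow_mem (j3 y1) _⟩) Nat.prime_three
      (sqt_of_calH hQ (mem_calH_of_isTwoLocal hM.1.1) 3 Nat.prime_three (by norm_num))
      (fun x hx => Subtype.ext (f5 x hx))
      (by rw [Nat.card_congr (subgroupOfEquivOfLe l1).toEquiv, f3])
      (Subtype.ext (by change (y ^ 3 ^ n) ^ 3 = 1; rw [← pow_mul, ← pow_succ, hn]))
      (mem_cent.2 fun x hx => Subtype.ext (mem_cent.1 (pow_mem f6 _) x hx))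
    exact this
  have y4 := pow_orderOf_eq_one y
  rw [hn] at y4
  match n, hn, y4 with
  | 0, _, y4 => exact y2 (by rw [pow_zero, pow_one] at y4; rw [y4]; exact one_mem _)
  | 1, _, y4 => exact y2 (by simpa using (y3 0 y4).1.2)
  | n + 2, hn, y4 =>
    have y5 := (y3 (n + 1) y4).1
    have y6 := f4 _ y5 (by
      rw [FF.tf_pow (j4 y1)]
      exact u3 n (FF.tf_pow (j4 y1) _ ▸ FF.tf_mem_bar (inf_le_left.trans j4) y5))
    have := Nat.le_of_dvd (by positivity) (hn ▸ orderOf_dvd_of_pow_eq_one y6)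
    exact absurd ((Nat.pow_le_pow_iff_right (by norm_num)).1 this) (by omega)

end Cfsg.Agent.QT
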