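import Mathlib
import Cfsg.Agent.S1821
import Cfsg.Agent.QT.XiOdd
import Cfsg.Agent.QT.NilTwo

/-! # QTKE-groups in which all 2-locals over a Sylow 2-subgroup are solvable. -/

set_option autoImplicit false
set_option linter.unusedSectionVars false

namespace Cfsg.Agent.QT

open Cfsg Cfsg.Agent.GT Cfsg.Agent.Loc Cfsg.Agent.Loc.Mss Cfsg.Agent.Loc.Blk Cfsg.Agent.Loc.BH
  Subgroup
open scoped commutatorElement

variable {G : Type*} [Group G] [Finite G] {p : ℕ}

theorem le_sup_inf_normal {X Y N : Subgroup G} [N.Normal] (h : Y ≤ X) (h' : X ≤ Y ⊔ N) :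
    X ≤ Y ⊔ X ⊓ N := fun x hx => by
  obtain ⟨y, hy, n, hn, rfl⟩ := mem_sup_of_normal_right.1 (h' hx)
  exact mul_mem_sup hy ⟨(mul_mem_cancel_left (h hy)).1 hx, hn⟩

theorem map_inf_comap_of_le {K : Type*} [Group K] {f : G →* K} {X : Subgroup G} {Φ : Subgroup K}
    (h : Φ ≤ X.map f) : (X ⊓ Φ.comap f).map f = Φ :=
  le_antisymm (map_le_iff_le_comap.2 inf_le_right) fun y hy => by
    obtain ⟨x, hx, rfl⟩ := h hy
    exact ⟨x, ⟨hx, hy⟩, rfl⟩

theorem XiD.lift {H K : Type*} [Group H] [Finite H] [Group K] [Finite K] {f : H →* K}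
    (hf : Function.Surjective f) (hk : IsPGroup 2 f.ker) {E Φ : Subgroup K} {T : Subgroup H}
    (h : XiD p E (T.map f) Φ) (he : ∀ x ∈ E, x ^ p = 1) :
    (pResidualOf 2 (E.comap f)).map f = E ∧
      XiD p (pResidualOf 2 (E.comap f)) T (pResidualOf 2 (E.comap f) ⊓ Φ.comap f) ∧
      pCoreOf 2 (pResidualOf 2 (E.comap f)) = pResidualOf 2 (E.comap f) ⊓ f.ker := by
  set X := pResidualOf 2 (E.comap f) with hX
  have e1 : X.map f = E := by rw [map_pResidualOf, map_comap_eq_self_of_surjective hf, h.res]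
  have e2 : (X ⊓ Φ.comap f).map f = Φ := map_inf_comap_of_le (e1 ▸ h.le)
  have n1 : T ≤ 𝐍[X] := Mss.norm_res ((le_comap_map _ _).trans (comap_norm_le f h.norm))
  have k1 : X ⊓ f.ker ≤ X ⊓ Φ.comap f := inf_le_inf_left _ (ker_le_comap f Φ)
  have m : ∀ x ∈ X, f x ∈ E := fun x hx => e1 ▸ mem_map_of_mem f hx
  refine ⟨e1, ⟨h.hp, h.h2, res_res _, n1, inf_le_left,
    norm_inf n1 ((le_comap_map _ _).trans (comap_norm_le f h.normΦ)),
    le_inf (comm_le_left le_normalizer) (by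
      rw [← map_le_iff_le_comap, Subgroup.map_commutator, e1]; exact h.comm),
    fun x hx => ⟨pow_mem hx p, mem_comap.2 (by rw [map_pow]; exact h.pow _ (m x hx))⟩,
    by rw [← relIndex_map_of_ker f inf_le_left k1, e1, e2, h.idx], ?_, fun Y y1 y2 y3 => ?_⟩,
    le_antisymm (le_inf (core_le _) ?_) (le_core_of_norm hk.to_inf_right inf_le_left
      (norm_inf le_normalizer (norm_normal _ _)))⟩
  · obtain ⟨k, hk'⟩ := h.card
    obtain ⟨n, hn⟩ := IsPGroup.iff_card.1 (hk.to_inf_right (H := X ⊓ Φ.comap f))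
    refine ⟨n + k, ?_⟩
    rw [← card_map_mul_card_inf_ker _ f, e2, hn, mul_comm, pow_add, mul_assoc]
    exact Nat.mul_dvd_mul_left _ hk'
  · refine (h.inv (Y.map f) (e1 ▸ map_mono y1) (e1 ▸ map_norm_le f y2) (map_norm_le f y3)).imp
      (fun a => le_inf y1 (map_le_iff_le_comap.1 a)) fun a => le_antisymm y1 ?_
    have a1 := Subgroup.map_le_map_iff.1 (e1.trans a.symm).le
    exact (res_res _).ge.trans (res_le_of_le_sup (inf_le_left.trans y2) hk.to_inf_right
      (le_sup_inf_normal y1 a1))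
  · have := Fact.mk h.hp
    rw [← Subgroup.map_eq_bot_iff]
    refine eq_bot_of_coprime ((pg_core X).map f) (e1 ▸ map_mono (core_le X)) ?_
    obtain ⟨n, hn⟩ := IsPGroup.iff_card.1 (show IsPGroup p E from
      pg_iff.2 fun x hx => ⟨1, by rw [pow_one, he x hx]⟩)
    exact hn ▸ ((Nat.coprime_primes h.hp Nat.prime_two).2 h.h2).pow_left n

theorem xid_unique (hQ : IsQTKE G) (T : Sylow 2 G) {X Φ : Subgroup G} (hD : XiD p X T Φ)
    (hO : pCoreOf 2 X ≤ Φ) (hX : X ⊔ (T : Subgroup G) ∈ calH G)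
    (hs : ∀ H ∈ calHOver (T : Subgroup G), Group.IsSolvable H) :
    maxTwoLocalsContaining (X ⊔ (T : Subgroup G)) = {𝐍[X]} := by
  refine maxTwoLocals_eq hQ T ⟨hX, le_sup_right⟩ (fun e => hD.not_le (e.le.trans bot_le))
    le_sup_left fun H hH => ?_
  have hT : (T : Subgroup G) ≤ H := le_sup_right.trans hH.2
  have hXH : X ≤ H := le_sup_left.trans hH.2
  have hD1 := hD.subgroupOf hXH hT
  have := hs H ⟨hH.1, hT⟩
  set π := QuotientGroup.mk' (pCore 2 H)
  have hk : π.ker ≤ (T : Subgroup G).subgroupOf H := by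
    rw [QuotientGroup.ker_mk']
    exact map_le_iff_le_comap.1 (Syl.of_sylow_le T hT).core_le
  have hkp : IsPGroup 2 π.ker := by
    rw [QuotientGroup.ker_mk']
    exact isPGroup_pCore 2
  have hD2 := hD1.map π (by
    refine le_trans ?_ (comap_mono hO)
    rw [← map_le_iff_le_comap]
    refine le_pCoreOf ?_ ?_ ((hkp.to_inf_right).map _)
    · exact map_le_iff_le_comap.2 inf_le_left
    · have := map_norm_le H.subtype (norm_inf (X := X.subgroupOf H) le_normalizer
        (norm_normal _ π.ker))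
      rwa [map_subgroupOf_eq_of_le hXH] at this)
  have a := hD2.normal_of_cent (sqt_quot (sqt_of_calH hQ hH.1)) pCore_quotient_pCore (by
    rw [centralizer_fitting_le_iff.1 centralizer_fitting_le, cent_bot]; exact le_top)
  have a1 := Mss.norm_res (p := 2) (norm_normal ⊤ (((X.subgroupOf H).map π).comap π))
  rw [comap_map_eq, res_sup_eq (hk.trans hD1.norm) hkp, hD1.res, norm_subgroupOf hXH] at a1
  exact fun x hx => a1 (mem_top (⟨x, hx⟩ : H))

theorem oz_le_oz_core (hQ : IsQTKE G) (T : Sylow 2 G) {H : Subgroup G}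
    (hH : H ∈ calHOver (T : Subgroup G)) : ΩZ[2, (T : Subgroup G)] ≤ ΩZ[2, pCoreOf 2 H] := by
  have a1 := (oz_le_cent (p := 2) (T : Subgroup G)).trans
    (cent_anti (Syl.of_sylow_le T hH.2).core_le)
  exact le_oz (ea_oz _) ((chP_iff.1 (charTwo_of_calHOver hQ T hH)).le_core
    ((oz_le _).trans hH.2) a1) a1

theorem solvable_of_calL (T : Sylow 2 G) (h : calL (T : Subgroup G) = ∅) {H : Subgroup G}
    (hH : H ∈ calHOver (T : Subgroup G)) : Group.IsSolvable H := by
  refine isSolvable_of_res (by_contra fun h0 => ?_)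
  obtain ⟨K, -, k1, k2⟩ := Finite.exists_le_minimal
    (p := fun K => K ≠ ⊥ ∧ ⁅K, K⁆ = K ∧ SubnormalIn K H)
    ⟨h0, res_perfect H, .of_le_normalizer (QT.res_le H) (le_normalizer.trans (QT.norm_res H))⟩
  exact h.le (CC.mem_calL T ⟨k1.1, k1.2.1, k1.2.2, fun L l1 l2 l3 l4 =>
    l1.not_ge (k2 ⟨l2, l3, l4⟩ l1.le)⟩ hH)

theorem nil_of_solvable [IsSimpleGroup G] (hG : ¬ IsMulCommutative G) (hQ : IsQTKE G)
    (T : Sylow 2 G) (hs : ∀ H ∈ calHOver (T : Subgroup G), Group.IsSolvable H)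
    (hT : ∃ M₁ M₂ : Subgroup G, M₁ ∈ maxTwoLocalsContaining (T : Subgroup G) ∧
      M₂ ∈ maxTwoLocalsContaining (T : Subgroup G) ∧ M₁ ≠ M₂)
    (hu : ∀ U N : Subgroup G, maxTwoLocalsContaining U = {N} → ¬ U ≤ 𝐂[ΩZ[2, (T : Subgroup G)]])
    {M : Subgroup G} (hM : M ∈ maxTwoLocalsContaining (T : Subgroup G)) :
    (T : Subgroup G) ⊓ pResidualOf 2 M ≤ pCoreOf 2 M := by
  have hMH := mem_calH_of_isTwoLocal hM.1.1
  have := hs M ⟨hMH, hM.2⟩
  set π := QuotientGroup.mk' (pCore 2 M)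
  have hπ : Function.Surjective π := QuotientGroup.mk'_surjective _
  have hk : π.ker = pCore 2 M := QuotientGroup.ker_mk' _
  have hS := Syl.of_sylow_le T hM.2
  obtain ⟨P, hP⟩ := Syl.exists_sylow_top (T := ((T : Subgroup G).subgroupOf M).map π) (p := 2) (by
    have := (hS.subgroupOf le_rfl).map π
    rwa [subgroupOf_self, map_top_of_surjective _ hπ] at this)
  have key := nil_two pCore_quotient_pCore (sqt_quot (sqt_of_calH hQ hMH)) P
    fun s E Φ hE hΦ hD he hgen q hq q2 g hg => by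
      rw [hP] at hD
      obtain ⟨e1, d1, e2⟩ := hD.lift hπ (by rw [hk]; exact isPGroup_pCore 2) he
      set X := pResidualOf 2 (E.comap π)
      have d2 := d1.map M.subtype (by rw [ker_subtype, inf_bot_eq]; exact bot_le)
      rw [map_subgroupOf_eq_of_le hM.2] at d2
      have hn : ∀ U : Subgroup M, ⊤ ≤ 𝐍[U] → M ≤ 𝐍[U.map M.subtype] := fun U u => by
        have := map_norm_le M.subtype u
        rwa [Mss.map_subtype_top] at this
      have n1 : ⊤ ≤ 𝐍[X] := Mss.norm_res (norm_normal _ _)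
      have l1 : X.map M.subtype ⊔ T ≤ M := sup_le (map_subtype_le _) hM.2
      have h1 : X.map M.subtype ⊔ T ∈ calH G := mem_calH_of_norm (pg_core M) (mem_calH_iff.1 hMH)
        (hS.core_le.trans le_sup_right) (l1.trans (le_norm_core M))
      have hO : pCoreOf 2 (X.map M.subtype) ≤ (X ⊓ Φ.comap π).map M.subtype := by
        rw [← map_pCoreOf_subtype, e2]
        exact map_mono (inf_le_inf_left _ (ker_le_comap π Φ))
      have u1 := xid_unique hQ T d2 hO h1 hs
      have u2 : M = 𝐍[X.map M.subtype] := u1.le ⟨hM.1, l1⟩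
      have := Fact.mk hq
      obtain ⟨J, hJ⟩ := Syl.exists q ((zpowers g).comap π)
      have j1 := (hJ.map π).ge_of_le hg ((map_mono hJ.le).trans (map_comap_le _ _))
        (map_comap_eq_self_of_surjective hπ _).ge
      obtain ⟨k, k1, rfl⟩ := j1 (mem_zpowers g)
      have x1 := xi_odd hG hQ T d2 hO (by
          rintro _ ⟨x, hx, rfl⟩
          rw [← map_pCoreOf_subtype, e2, ← map_pow]
          exact mem_map_of_mem _ ⟨pow_mem hx s, MonoidHom.mem_ker.2 (by
            rw [map_pow]; exact he _ (e1 ▸ mem_map_of_mem π hx))⟩)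
        (fun Y y1 y2 => by
          obtain ⟨Y, rfl⟩ : ∃ Y' : Subgroup M, Y'.map M.subtype = Y :=
            ⟨_, map_subgroupOf_eq_of_le (y1.trans (map_subtype_le _))⟩
          rw [← Subgroup.map_sup, (map_injective M.subtype_injective).eq_iff] at y2
          have y3 : Y ≤ X := le_sup_right.trans y2.le
          have y4 := congrArg (map π) y2
          rw [Subgroup.map_sup, map_inf_comap_of_le (e1 ▸ hD.le), e1] at y4
          have y5 := Subgroup.map_le_map_iff.1 (e1.le.trans (hgen _ (e1 ▸ map_mono y3) y4))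
          rw [← map_pCoreOf_subtype, e2, ← Subgroup.map_sup]
          exact map_mono (le_sup_inf_normal y3 y5))
        (u2.ge.trans (hn _ (norm_inf n1 (norm_normal _ _)))) u1 hT
        (fun l => hu _ _ u1 (sup_le (l.trans (cent_anti (oz_le_oz_core hQ T ⟨h1, le_sup_right⟩)))
          (le_cent_oz _))) hq q2 (g := k) (u2.le k.2) (by
            have := (hJ.pg.to_le (zpowers_le.2 k1)).map M.subtype
            rwa [MonoidHom.map_zpowers] at this)
      refine ⟨norm_normal ⊤ _ (mem_top _), fun v hv => ?_⟩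
      obtain ⟨x, hx, rfl⟩ := e1.ge hv
      obtain ⟨y, y1, y2⟩ := x1.2 _ (mem_map_of_mem M.subtype hx)
      rw [← map_commutatorElement, ← show y = ⁅x, k⁆ from Subtype.ext y2]
      exact y1.2
  rw [Tr.hasNormalPComplement_iff_inf_pResidual P, hP] at key
  rintro _ ⟨x1, x, x2, rfl⟩
  exact ⟨x, hk.le (key.le ⟨⟨x, x1, rfl⟩, Tr.map_pResidual_le π ⟨x, x2, rfl⟩⟩), rfl⟩

end Cfsg.Agent.QT
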