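import Mathlib
import Cfsg.Agent.S1003
import Cfsg.Agent.S1005

/-! An involutory automorphism of a simple group of order 168 fixing a subgroup of order 24 is
trivial. -/

set_option autoImplicit false
open Subgroup

namespace Cfsg.Agent.QT.Wr

theorem aut168 {L : Type*} [Group L] [Finite L] [IsSimpleGroup L] (hL : Nat.card L = 168)
    (α : L ≃* L) (hα : ∀ x, α (α x) = x) {K : Subgroup L} (hK : Nat.card K = 24)
    (hKα : ∀ k ∈ K, α k = k) : ∀ x, α x = x := by
  have : Fact (Nat.Prime 7) := ⟨by norm_num⟩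
  let C : Subgroup L := MonoidHom.eqLocus α.toMonoidHom (MonoidHom.id L)
  have mC : ∀ x, x ∈ C ↔ α x = x := fun x => Iff.rfl
  have hKC : K ≤ C := fun k hk => hKα k hk
  have h1 : 24 ∣ Nat.card C := hK ▸ card_dvd_of_le hKC
  have h2 : Nat.card C ∣ 168 := hL ▸ card_subgroup_dvd_card C
  by_contra hne
  have hC : Nat.card C = 24 := by
    obtain ⟨m, hm⟩ := h1
    have h3 : m ∣ 7 := Nat.dvd_of_mul_dvd_mul_left (by norm_num : 0 < 24) (by rw [← hm]; exact h2)
    rcases (Nat.dvd_prime (by norm_num)).1 h3 with rfl | rfl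
    · exact hm
    · exact absurd (fun x => (mC x).1 (by rw [eq_top_of_card_eq C (by rw [hm, hL])]; trivial)) hne
  have hord := (S1005.result hL).1
  obtain ⟨P⟩ : Nonempty (Sylow 7 L) := inferInstance
  have hP : Nat.card (P : Subgroup L) = 7 := by
    rw [Sylow.card_eq_multiplicity, hL, show 168 = 7 * 24 by norm_num,
      Nat.factorization_mul (by norm_num) (by norm_num)]
    simp [Nat.Prime.factorization (by norm_num : Nat.Prime 7), Nat.factorization_eq_zero_of_not_dvd]
  have hN : Nat.card (normalizer ((P : Subgroup L) : Set L)) = 21 := by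
    have h3 := (S1003.result hL).2.2
    rw [Sylow.card_eq_index_normalizer P] at h3
    have h4 := (normalizer ((P : Subgroup L) : Set L)).card_mul_index
    have h3' : (normalizer ((P : Subgroup L) : Set L)).index = 8 := h3
    rw [h3', hL] at h4
    omega
  have hPC : Disjoint (P : Subgroup L) C :=
    disjoint_of_coprime_natCard (by rw [hP, hC]; norm_num)
  have hdec : ∀ l : L, ∃ p ∈ (P : Subgroup L), ∃ c ∈ C, l = p * c := fun l => by
    obtain ⟨⟨p, c⟩, h⟩ := (isComplement'_of_card_mul_and_disjoint (by rw [hP, hC, hL]) hPC).2 l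
    exact ⟨p, p.2, c, c.2, h.symm⟩
  have p7 : ∀ p ∈ (P : Subgroup L), p ^ 7 = 1 := fun p hp => by
    have := pow_card_eq_one' (x := (⟨p, hp⟩ : (P : Subgroup L)))
    rw [hP] at this
    exact congrArg Subtype.val this
  have gen : ∀ q ∈ (P : Subgroup L), q ≠ 1 → zpowers q = P := fun q hq h1 =>
    eq_of_le_of_card_ge (zpowers_le.2 hq) (by
      rw [Nat.card_zpowers, orderOf_eq_prime (p7 q hq) h1, hP])
  have h3 : ∀ x ∈ C, x ∈ normalizer ((P : Subgroup L) : Set L) → x ^ 3 = 1 := fun x hx hx' => by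
    have a1 : orderOf x ∣ 24 := hC ▸ (orderOf_coe (⟨x, hx⟩ : C)) ▸ orderOf_dvd_natCard _
    have a2 : orderOf x ∣ 21 := hN ▸ (orderOf_coe (⟨x, hx'⟩ : normalizer _)) ▸ orderOf_dvd_natCard _
    exact orderOf_dvd_iff_pow_eq_one.1 (Nat.dvd_gcd a1 a2)
  have nm : ∀ x : L, (∀ p ∈ (P : Subgroup L), x * p * x⁻¹ ∈ (P : Subgroup L)) →
      x ∈ normalizer ((P : Subgroup L) : Set L) := fun x h => mem_normalizer_fintype h
  have mn : ∀ x ∈ normalizer ((P : Subgroup L) : Set L), ∀ p ∈ (P : Subgroup L),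
      x * p * x⁻¹ ∈ (P : Subgroup L) := fun x h p hp => (mem_normalizer_iff.1 h p).1 hp
  -- no element of order 6 or 21
  have no : ∀ a b : L, Commute a b → a ^ 3 = 1 → a ≠ 1 → (b ^ 2 = 1 ∨ b ^ 7 = 1) → b = 1 := by
    intro a b hab ha ha1 hb
    have oa : orderOf a = 3 := orderOf_eq_prime ha ha1
    by_contra hb1
    rcases hb with hb | hb
    · have ob : orderOf b = 2 := orderOf_eq_prime hb hb1
      have e := hab.orderOf_mul_eq_mul_orderOf_of_coprime (by rw [oa, ob]; norm_num)
      have := hord (a * b)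
      rw [e, oa, ob] at this
      omega
    · have ob : orderOf b = 7 := orderOf_eq_prime hb hb1
      have e := hab.orderOf_mul_eq_mul_orderOf_of_coprime (by rw [oa, ob]; norm_num)
      have := hord (a * b)
      rw [e, oa, ob] at this
      omega
  -- `conj c ∘ α` stabilizes `P`
  obtain ⟨c, hc, hβ⟩ : ∃ c ∈ C, ∀ p ∈ (P : Subgroup L), c * α p * c⁻¹ ∈ (P : Subgroup L) := by
    obtain ⟨Q, hQ⟩ := (P.isPGroup'.map α.toMonoidHom).exists_le_sylow
    obtain ⟨g, hg⟩ := MulAction.exists_smul_eq L Q P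
    obtain ⟨p, hp, c, hc, rfl⟩ := hdec g
    refine ⟨c, hc, fun x hx => ?_⟩
    have : (p * c) * α x * (p * c)⁻¹ ∈ (P : Subgroup L) := by
      rw [← hg]
      exact smul_mem_pointwise_smul _ (MulAut.conj (p * c)) _ (hQ (mem_map_of_mem _ hx))
    have := mul_mem (mul_mem (inv_mem hp) this) hp
    simpa [mul_assoc] using this
  have hc' : α c = c := hc
  obtain ⟨p0, hp0, hp1⟩ : ∃ p ∈ (P : Subgroup L), p ≠ 1 := by
    by_contra h
    push Not at h
    rw [(eq_bot_iff_forall _).2 h] at hP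
    simp at hP
  have hc2 : (c * c) ^ 3 = 1 := h3 _ (mul_mem hc hc) (nm _ fun p hp => by
    have := hβ _ (hβ p hp)
    simpa [hc', hα, mul_assoc] using this)
  have hαP : ∀ p ∈ (P : Subgroup L), α p ∈ (P : Subgroup L) := by
    have hc6 : c ^ 2 = 1 ∨ c ^ 3 = 1 := by
      have : orderOf c ∣ 6 := orderOf_dvd_iff_pow_eq_one.2 (by rw [← hc2, ← sq, ← pow_mul])
      rw [← orderOf_dvd_iff_pow_eq_one, ← orderOf_dvd_iff_pow_eq_one]
      rcases hord c with h | h | h | h | h <;> rw [h] at this ⊢ <;> revert this <;> decide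
    rcases hc6 with h | h
    · obtain ⟨n, hn, hnP⟩ : ∃ n ∈ normalizer ((P : Subgroup L) : Set L), n ∉ (P : Subgroup L) := by
        by_contra h
        push Not at h
        have := card_le_of_le (show normalizer ((P : Subgroup L) : Set L) ≤ P from h)
        omega
      obtain ⟨p, hp, k, hk, rfl⟩ := hdec n
      have hkN : k ∈ normalizer ((P : Subgroup L) : Set L) := by
        simpa using mul_mem (inv_mem (le_normalizer hp)) hn
      have hk1 : k ≠ 1 := by rintro rfl; exact hnP (by simpa using hp)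
      have hk' : α k = k := hk
      obtain ⟨a, ha⟩ := mem_zpowers_iff.1 ((gen p0 hp0 hp1).ge (hβ p0 hp0))
      obtain ⟨b, hb⟩ := mem_zpowers_iff.1 ((gen p0 hp0 hp1).ge (mn k hkN p0 hp0))
      have e1 : c * α (k * p0 * k⁻¹) * c⁻¹ = k * (c * α p0 * c⁻¹) * k⁻¹ := by
        rw [← hb, map_zpow, ← conj_zpow, ← ha, ← conj_zpow, ← hb, ← zpow_mul, ← zpow_mul, mul_comm]
      have hq1 : c * α p0 * c⁻¹ ≠ 1 := by simpa using hp1
      have hx : Commute (k⁻¹ * (c * k * c⁻¹)) (c * α p0 * c⁻¹) := by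
        simp only [map_mul, map_inv, hk'] at e1
        calc k⁻¹ * (c * k * c⁻¹) * (c * α p0 * c⁻¹)
            = k⁻¹ * (c * (k * α p0 * k⁻¹) * c⁻¹) * (c * k * c⁻¹) := by group
          _ = _ := by rw [e1]; group
      have hxN : k⁻¹ * (c * k * c⁻¹) ∈ normalizer ((P : Subgroup L) : Set L) := by
        rw [← gen _ (hβ p0 hp0) hq1]
        exact centralizer_le_normalizer _ (mem_centralizer_iff.2 fun y hy => by
          obtain ⟨i, rfl⟩ := mem_zpowers_iff.1 hy
          exact (hx.symm.zpow_left i).eq)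
      have hx1 : k⁻¹ * (c * k * c⁻¹) = 1 := by
        by_contra h1
        exact hq1 (no _ _ hx (h3 _ (mul_mem (inv_mem hk) (mul_mem (mul_mem hc hk) (inv_mem hc))) hxN)
          h1 (Or.inr (p7 _ (hβ p0 hp0))))
      have hkc : Commute k c := by
        have : c * k * c⁻¹ = k := (inv_mul_eq_one.1 hx1).symm
        calc k * c = (c * k * c⁻¹) * c := by rw [this]
          _ = c * k := by group
      have := no k c hkc (h3 k hk hkN) hk1 (Or.inl h)
      subst this
      simpa using hβ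
    · intro p hp
      have := hβ _ (hβ _ (hβ p hp))
      have e : c * α (c * α (c * α p * c⁻¹) * c⁻¹) * c⁻¹ = c ^ 3 * α p * (c ^ 3)⁻¹ := by
        simp only [map_mul, map_inv, hc', hα, pow_succ, pow_zero, one_mul]; group
      rw [e, h] at this
      simpa using this
  have hδ : ∀ l : L, l * (α l)⁻¹ ∈ (P : Subgroup L) := fun l => by
    obtain ⟨p, hp, k, hk, rfl⟩ := hdec l
    have hk' : α k = k := hk
    simpa [hk', mul_assoc] using mul_mem hp (inv_mem (hαP p hp))
  have hq1 : p0 * (α p0)⁻¹ ≠ 1 := fun h => hp1 (by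
    have : p0 ∈ C := (mul_inv_eq_one.1 h).symm
    exact (disjoint_def.1 hPC) hp0 this)
  have : normalizer ((P : Subgroup L) : Set L) = ⊤ := eq_top_iff.2 fun l _ => nm l fun p hp => by
    obtain ⟨i, rfl⟩ := mem_zpowers_iff.1 ((gen _ (hδ p0) hq1).ge hp)
    rw [← conj_zpow]
    refine zpow_mem ?_ i
    have := mul_mem (hδ (l * p0)) (inv_mem (hδ l))
    simpa [mul_assoc] using this
  rw [this, card_top, hL] at hN
  omega

end Cfsg.Agent.QT.Wr
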