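import Mathlib
import Cfsg.Agent.QT.WrG
import Cfsg.Agent.QT.Wr168
import Cfsg.Agent.S3035
import Cfsg.Agent.Cl.LinearIso
import Cfsg.Agent.GT.PPrimeCore

/-! The fusion analysis for S1829. -/

set_option autoImplicit false
open Cfsg Subgroup

namespace Cfsg.Agent.QT.Wr

open Cfsg.Agent.GT Cfsg.Agent.Loc Cfsg.Agent.Loc.Mss

variable {G : Type*} [Group G]

/-- `g` conjugates `ψ x` to `ψ y`. -/
def Cj (ψ : W →* G) (g : G) (x y : W) : Prop := g * ψ x * g⁻¹ = ψ y

section
variable {ψ : W →* G} {g : G} {x y x' y' : W}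

theorem Cj.mul (h : Cj ψ g x y) (h' : Cj ψ g x' y') : Cj ψ g (x * x') (y * y') := by
  unfold Cj at *
  rw [map_mul, map_mul, ← h, ← h']; group

theorem Cj.conj (h : Cj ψ g x y) : IsConj (ψ x) (ψ y) := isConj_iff.2 ⟨g, h⟩

theorem Cj.of_le {X Y : Subgroup W} (h : cj(g, X.map ψ) ≤ Y.map ψ) (hx : x ∈ X) :
    ∃ y ∈ Y, Cj ψ g x y := by
  obtain ⟨y, hy, e⟩ := cj_le_iff.1 h _ (mem_map_of_mem _ hx)
  exact ⟨y, hy, e.symm⟩

theorem Cj.inj (hi : Function.Injective ψ) (h : Cj ψ g x y) (h' : Cj ψ g x' y) : x = x' :=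
  hi (by have := h.trans h'.symm; simpa using this)

theorem Cj.eq (hi : Function.Injective ψ) (h : Cj ψ g x y) (h' : Cj ψ g x y') : y = y' :=
  hi (h.symm.trans h')

theorem Cj.ne (hi : Function.Injective ψ) (h : Cj ψ g x y) (h' : Cj ψ g x' y') (e : y = y')
    (n : x ≠ x') : False := n (h.inj hi (e ▸ h'))

theorem Cj.one : Cj ψ g 1 1 := by simp [Cj]

theorem Cj.post (h : Cj ψ g x y) (w : W) : Cj ψ (ψ w * g) x (w * y * w⁻¹) := by
  unfold Cj at *
  rw [map_mul, map_mul, map_inv, ← h]; group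

theorem Cj.comm (h : Cj ψ g x x) : g * ψ x = ψ x * g := mul_inv_eq_iff_eq_mul.1 h

theorem ctp (hx : x ∈ T0) (h : x * x = 1) (e : tp x = y) : IsConj (ψ x) (ψ y) :=
  e ▸ ψ.map_isConj (conj_tp hx h)

end

theorem no27 {N : Subgroup G} (hr : PRankLE 3 2 N) {a b r : G} (ha : a ∈ N) (hb : b ∈ N)
    (hρ : r ∈ N) (a3 : a ^ 3 = 1) (b3 : b ^ 3 = 1) (r3 : r ^ 3 = 1) (ab : Commute a b)
    (ar : Commute a r) (br : Commute b r)
    (hi : Function.Injective fun x : Fin 3 × Fin 3 × Fin 3 => a ^ x.1.val * b ^ x.2.1.val * r ^ x.2.2.val)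
    [Finite G] : False := by
  let a' : N := ⟨a, ha⟩
  let b' : N := ⟨b, hb⟩
  let r' : N := ⟨r, hρ⟩
  have hc : ∀ x ∈ ({a', b', r'} : Set N), ∀ y ∈ ({a', b', r'} : Set N), x * y = y * x := by
    have e1 : a' * b' = b' * a' := Subtype.ext ab.eq
    have e2 : a' * r' = r' * a' := Subtype.ext ar.eq
    have e3 : b' * r' = r' * b' := Subtype.ext br.eq
    rintro x (rfl | rfl | rfl) y (rfl | rfl | rfl) <;> simp [e1, e2, e3]
  have hcm : IsMulCommutative (closure ({a', b', r'} : Set N)) := isMulCommutative_closure hc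
  have h3 : ∀ x ∈ closure ({a', b', r'} : Set N), x ^ 3 = 1 := by
    intro x hx
    induction hx using closure_induction with
    | mem x hx => rcases hx with rfl | rfl | rfl <;> exact Subtype.ext (by simpa)
    | one => simp
    | mul x y hx hy h1 h2 =>
      have : Commute x y := congrArg Subtype.val
        (hcm.is_comm.comm (⟨x, hx⟩ : closure ({a', b', r'} : Set N)) ⟨y, hy⟩)
      rw [this.mul_pow, h1, h2, one_mul]
    | inv x _ h => rw [inv_pow, h, inv_one]
  have h9 := hr _ hcm h3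
  have m : ∀ x ∈ ({a', b', r'} : Set N), x ∈ closure ({a', b', r'} : Set N) := fun x hx =>
    subset_closure hx
  have := Nat.card_le_card_of_injective
    (fun x : Fin 3 × Fin 3 × Fin 3 => (⟨a' ^ x.1.val * b' ^ x.2.1.val * r' ^ x.2.2.val,
      mul_mem (mul_mem (pow_mem (m _ (by simp)) _) (pow_mem (m _ (by simp)) _))
        (pow_mem (m _ (by simp)) _)⟩ : closure ({a', b', r'} : Set N)))
    fun x y h => hi (congrArg (fun u => ((u.1 : N) : G)) h)
  simp at this
  omega

theorem a6_el : ∃ a b : alternatingGroup (Fin 6), a ^ 3 = 1 ∧ b ^ 3 = 1 ∧ a * b = b * a ∧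
    Function.Injective fun x : Fin 3 × Fin 3 => a ^ x.1.val * b ^ x.2.val := by
  refine ⟨⟨Equiv.swap 0 1 * Equiv.swap 1 2, by simp [Equiv.Perm.mem_alternatingGroup]⟩,
    ⟨Equiv.swap 3 4 * Equiv.swap 4 5, by simp [Equiv.Perm.mem_alternatingGroup]⟩,
    Subtype.ext (by decide +kernel), Subtype.ext (by decide +kernel),
    Subtype.ext (by decide +kernel), fun x y h => ?_⟩
  have h' := congrArg Subtype.val h
  simp only [Subgroup.coe_mul, Subgroup.coe_pow] at h'
  revert x y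
  have : ∀ x y : Fin 3 × Fin 3, (Equiv.swap (0 : Fin 6) 1 * Equiv.swap 1 2) ^ x.1.val *
      (Equiv.swap (3 : Fin 6) 4 * Equiv.swap 4 5) ^ x.2.val =
      (Equiv.swap (0 : Fin 6) 1 * Equiv.swap 1 2) ^ y.1.val *
      (Equiv.swap (3 : Fin 6) 4 * Equiv.swap 4 5) ^ y.2.val → x = y := by decide +kernel
  exact fun x y _ h => this x y h

variable [Finite G]

namespace Ctx

variable {ψ : W →* G} (c : Ctx ψ)
include c

theorem nc {x y : G} (h1 : IsConj x (ψ z1)) (h2 : IsConj y (ψ zz)) (h : IsConj x y) : False :=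
  c.nconj (h1.symm.trans (h.trans h2))

theorem tcase (h1 : IsConj (ψ s1) (ψ z1)) (h2 : IsConj (ψ sz) (ψ zz))
    (h3 : IsConj (ψ ss) (ψ zz)) : False := by
  have sg : ∀ x, single x → IsConj (ψ x) (ψ z1) := by
    rintro x ⟨a, b, e | e⟩
    · exact ctp a b e
    · exact (ctp a b e).trans h1
  have db : ∀ x, double x → IsConj (ψ x) (ψ zz) := by
    rintro x ⟨a, b, e | e | e⟩
    · exact ctp a b e
    · exact (ctp a b e).trans h2
    · exact (ctp a b e).trans h3
  have ou : ∀ x ∈ TT, x.e = true → x * x = 1 → IsConj (ψ x) (ψ t) := fun x a b d => by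
    obtain ⟨k, hk⟩ := outer_conj x a b d
    exact ψ.map_isConj (isConj_iff.2 ⟨_, hk⟩)
  have hX : (TT ⊓ centralizer {t}).map ψ ≤ centralizer {ψ t} :=
    cent_map fun w hw => mem_centralizer_singleton_iff.1 hw.2
  have ma : vv ∈ TT ⊓ centralizer {t} :=
    mem_inf.2 ⟨by decide +kernel, mem_centralizer_singleton_iff.2 (by decide +kernel)⟩
  have mb : ss ∈ TT ⊓ centralizer {t} :=
    mem_inf.2 ⟨by decide +kernel, mem_centralizer_singleton_iff.2 (by decide +kernel)⟩
  have tt : t * t = 1 := by decide +kernel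
  obtain ⟨g, ⟨u, hu, eu⟩, -⟩ := c.thompson relIndex_T0 (y := ψ t) (by rw [← map_mul, tt, map_one])
    (X := ⊥) IsPGroup.of_bot bot_le
  have cu : Cj ψ g t u := eu.symm
  have uu : u * u = 1 := (cu.mul cu).eq c.inj (tt ▸ Cj.one)
  have ht : IsConj (ψ t) (ψ z1) ∨ IsConj (ψ t) (ψ zz) := by
    rcases single_or u hu uu with rfl | h | h
    · exact absurd (cu.inj c.inj Cj.one) (by decide +kernel)
    · exact Or.inl (cu.conj.trans (sg _ h))
    · exact Or.inr (cu.conj.trans (db _ h))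
  have sq : ∀ {g : G} {x y : W}, Cj ψ g x y → x * x = 1 → y * y = 1 := fun h e =>
    (h.mul h).eq c.inj (by rw [e]; exact Cj.one)
  have ew : vv * ss * (vv * ss) = zz := by decide +kernel
  rcases ht with ht | ht
  · obtain ⟨g, hg, hle⟩ := extr c.syl_z1 (pg inf_le_left) hX ht
    have ct : Cj ψ g t z1 := hg
    obtain ⟨a, ha, ca⟩ := Cj.of_le hle ma
    obtain ⟨b, hb, cb⟩ := Cj.of_le hle mb
    have cw := (ca.mul cb).mul (ca.mul cb)
    rw [ew] at cw
    have n1 : ∀ {x y : W}, Cj ψ g x y → double x → ¬ single y := fun h d s =>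
      c.nc (sg _ s) (db _ d) h.conj.symm
    have n2 : ∀ {x y : W}, Cj ψ g x y → x ∈ TT → x.e = true → x * x = 1 → ¬ double y :=
      fun h a b d s => c.nc ((ou _ a b d).trans ht) (db _ s) h.conj
    rcases F2 a ha (sq ca (by decide +kernel)) b hb (sq cb (by decide +kernel)) _ rfl with
      h | h | h | h | h | h
    · exact cw.ne c.inj Cj.one h (by decide +kernel)
    · exact n1 ca (by decide +kernel) h
    · exact n1 cb (by decide +kernel) h
    · exact n1 cw (by decide +kernel) h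
    · exact n2 (ca.mul ct) (by decide +kernel) (by decide +kernel) (by decide +kernel) h
    · exact n2 (cb.mul ct) (by decide +kernel) (by decide +kernel) (by decide +kernel) h
  · obtain ⟨g, hg, hle⟩ := extr c.syl_zz (pg inf_le_left) hX ht
    have ct : Cj ψ g t zz := hg
    obtain ⟨a, ha, ca⟩ := Cj.of_le hle ma
    obtain ⟨b, hb, cb⟩ := Cj.of_le hle mb
    have cw := (ca.mul cb).mul (ca.mul cb)
    rw [ew] at cw
    have n1 : ∀ {x y : W}, Cj ψ g x y → double x → ¬ single y := fun h d s =>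
      c.nc (sg _ s) (db _ d) h.conj.symm
    have n2 : ∀ {x y : W}, Cj ψ g x y → x ∈ TT ∧ x.e = true ∧ x * x = 1 → ¬ single y :=
      fun h a s => c.nc (sg _ s) ((ou _ a.1 a.2.1 a.2.2).trans ht) h.conj.symm
    rcases F1 a ha (sq ca (by decide +kernel)) b hb (sq cb (by decide +kernel)) _ rfl
      (sq cw (by decide +kernel)) with h | h | h | h | h | h | h | h | h | h | h | h
    · exact cw.ne c.inj Cj.one h (by decide +kernel)
    · exact cw.ne c.inj ct h (by decide +kernel)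
    · exact n1 ca (by decide +kernel) h
    · exact n2 (ca.mul ct) (by decide +kernel) h
    · exact n1 (ca.mul cw) (by decide +kernel) h
    · exact n2 ((ca.mul cw).mul ct) (by decide +kernel) h
    · exact n1 cb (by decide +kernel) h
    · exact n2 (cb.mul ct) (by decide +kernel) h
    · exact n1 (cb.mul cw) (by decide +kernel) h
    · exact n2 ((cb.mul cw).mul ct) (by decide +kernel) h
    · exact n1 cw (by decide +kernel) h
    · exact n2 (cw.mul ct) (by decide +kernel) h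

theorem final (hch : IsOfCharacteristicTwo (centralizer ({ψ zz} : Set G)))
    (hr : PRankLE 3 2 𝐍[(pr O V).map ψ]) {g : G} {u : W} (h1 : Cj ψ g s1 z1) (h2 : Cj ψ g z1 u)
    (hu : u = s1 ∨ u = s1 * z1) (h3 : Cj ψ g z2 z2) (h4 : Cj ψ g v2 v2)
    (hss : IsConj (ψ ss) (ψ z1)) (hsz : IsConj (ψ sz) (ψ zz)) : False := by
  -- an element `y` centralizing `A₄` and conjugating `s1` to `z1`
  have tr : ∀ {x y : W}, Cj ψ g x y → r2⁻¹ * (r2 * x * r2⁻¹) * r2 = x →
      ∀ x', Cj ψ g (r2 * x * r2⁻¹) x' → r2⁻¹ * x' * r2 = y →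
      ((ψ r2)⁻¹ * (g * ψ r2 * g⁻¹)) * ψ y = ψ y * ((ψ r2)⁻¹ * (g * ψ r2 * g⁻¹)) := by
    intro x y h _ x' h' e
    have e' : ψ y = (ψ r2)⁻¹ * ψ x' * ψ r2 := by rw [← e]; simp
    unfold Cj at h h'
    rw [map_mul, map_mul, map_inv] at h'
    conv_lhs => rw [← h]
    rw [e', ← h']; group
  have k1 := tr h1 (by group) z1 (by rwa [show r2 * s1 * r2⁻¹ = s1 by decide +kernel]) (by decide +kernel)
  have k2 := tr h2 (by group) u (by rwa [show r2 * z1 * r2⁻¹ = z1 by decide +kernel])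
    (by rcases hu with rfl | rfl <;> decide +kernel)
  have k3 := tr h3 (by group) (v2 * z2)
    (by rw [show r2 * z2 * r2⁻¹ = v2 * z2 by decide +kernel]; exact h4.mul h3) (by decide +kernel)
  have k4 := tr h4 (by group) z2 (by rwa [show r2 * v2 * r2⁻¹ = z2 by decide +kernel]) (by decide +kernel)
  obtain ⟨k, hk, ek⟩ := c.centE hch k1 k3 k4
  rw [← ek] at k2
  have er : ψ (r2 * k) = g * ψ r2 * g⁻¹ := by rw [map_mul, ek]; group
  have r3 : r2 * r2 * r2 = 1 := by decide +kernel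
  have cr : Cj ψ g r2 (r2 * k) := er.symm
  obtain ⟨w, hw, ew⟩ := G6 k hk (by
      rcases hu with rfl | rfl
      · exact Or.inl (c.cm.1 k2)
      · exact Or.inr (c.cm.1 k2))
    (((cr.mul cr).mul cr).eq c.inj (r3 ▸ Cj.one))
  obtain ⟨w1, w2, w3⟩ := G7 w hw
  have cv : ∀ {a : W}, w * a = a * w → w⁻¹ * a * w⁻¹⁻¹ = a := fun h => by
    rw [inv_inv, mul_assoc, ← h]; group
  set y := ψ w⁻¹ * g
  have y1 : Cj ψ y s1 z1 := cv w1 ▸ h1.post w⁻¹
  have y2 : Cj ψ y z2 z2 := by have := h3.post w⁻¹; rwa [cv w2] at this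
  have y3 : Cj ψ y v2 v2 := by have := h4.post w⁻¹; rwa [cv w3] at this
  have y4 : Cj ψ y r2 r2 := by
    have := cr.post w⁻¹
    rwa [ew, show w⁻¹ * (w * r2 * w⁻¹) * w⁻¹⁻¹ = r2 by group] at this
  set L : Subgroup G := centralizer {ψ r2, ψ z2, ψ v2} with hL
  have mL : ∀ x, x ∈ L ↔ x * ψ r2 = ψ r2 * x ∧ x * ψ z2 = ψ z2 * x ∧ x * ψ v2 = ψ v2 * x := by
    intro x
    simp only [hL, mem_centralizer_iff, Set.mem_insert_iff, Set.mem_singleton_iff, forall_eq_or_imp,
      forall_eq]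
    exact ⟨fun ⟨a, b, d⟩ => ⟨a.symm, b.symm, d.symm⟩, fun ⟨a, b, d⟩ => ⟨a.symm, b.symm, d.symm⟩⟩
  have hy : y ∈ L := (mL y).2 ⟨y4.comm, y2.comm, y3.comm⟩
  have hF : ∀ x ∈ pr F O, ψ x ∈ L := fun x hx => by
    obtain ⟨a, b, d, -⟩ := G9 x hx
    exact (mL _).2 ⟨c.cm.2 a, c.cm.2 b, c.cm.2 d⟩
  let el (x : W) (hx : x ∈ pr F O) : L := ⟨ψ x, hF x hx⟩
  have hz : z1 ∈ pr F O := by decide +kernel
  have hC : (centralizer ({el z1 hz} : Set L)).map L.subtype = (pr D O).map ψ := by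
    apply le_antisymm
    · rintro _ ⟨x, hx, rfl⟩
      obtain ⟨a, b, d⟩ := (mL _).1 x.2
      obtain ⟨k, hk, ek⟩ := c.centE hch
        (congrArg Subtype.val (mem_centralizer_singleton_iff.1 hx)) b d
      rw [← ek] at a
      exact ⟨k, G8 k hk (c.cm.1 a), ek⟩
    · rintro _ ⟨x, hx, rfl⟩
      exact ⟨el x (G10 x hx).2, mem_centralizer_singleton_iff.2
        (Subtype.ext (c.cm.2 (G10 x hx).1)), rfl⟩
  have eD : centralizer ({el z1 hz} : Set L) ≃* DihedralGroup 4 :=
    ((equivMapOfInjective _ _ L.subtype_injective).trans (MulEquiv.subgroupCongr (by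
      rw [hC, ← dih_range, MonoidHom.map_range]))).trans
      (MonoidHom.ofInjective (c.inj.comp dih_inj : Function.Injective (ψ.comp dih))).symm
  have oz : orderOf (el z1 hz) = 2 := orderOf_eq_prime
    (Subtype.ext (by simp only [el, SubmonoidClass.mk_pow, OneMemClass.coe_one]
                     rw [← map_pow, show z1 ^ 2 = 1 by decide +kernel, map_one]))
    fun h => absurd (c.inj ((congrArg Subtype.val h).trans (map_one ψ).symm)) (by decide +kernel)
  have hs : s1 ∈ pr F O := by decide +kernel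
  have hv : v1 ∈ pr F O := by decide +kernel
  have hρ : r1 ∈ pr F O := by decide +kernel
  have idx : ∀ K : Subgroup L, K.index = 2 → 16 ∣ Nat.card L := fun K hK => by
    have := normal_of_index_eq_two hK
    have m1 : el z1 hz ∈ K := by
      have := K.sq_mem_of_index_two hK (el s1 hs * el v1 hv)
      rwa [show (el s1 hs * el v1 hv) ^ 2 = el z1 hz from Subtype.ext (by
        simp only [el, Subgroup.coe_pow, Subgroup.coe_mul]
        rw [← map_mul, ← map_pow, show (s1 * v1) ^ 2 = z1 by decide +kernel])] at this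
    have m2 : el s1 hs ∈ K := by
      have := this.conj_mem _ m1 (⟨y, hy⟩ : L)⁻¹
      rwa [show (⟨y, hy⟩ : L)⁻¹ * el z1 hz * (⟨y, hy⟩ : L)⁻¹⁻¹ = el s1 hs from Subtype.ext (by
        show y⁻¹ * ψ z1 * y⁻¹⁻¹ = ψ s1
        rw [← y1]; group)] at this
    have m3 : el v1 hv ∈ K := by
      have := this.conj_mem _ m1 (el r1 hρ)⁻¹
      rwa [show (el r1 hρ)⁻¹ * el z1 hz * (el r1 hρ)⁻¹⁻¹ = el v1 hv from Subtype.ext (by
        show (ψ r1)⁻¹ * ψ z1 * (ψ r1)⁻¹⁻¹ = ψ v1
        rw [← map_inv, ← map_inv, ← map_mul, ← map_mul, show r1⁻¹ * z1 * r1⁻¹⁻¹ = v1 by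
          decide +kernel])] at this
    have hle : (pr D O).map ψ ≤ K.map L.subtype := by
      rintro _ ⟨x, hx, rfl⟩
      obtain ⟨i, j, rfl⟩ := G11 x hx
      exact ⟨_, mul_mem (pow_mem m2 i.val) (pow_mem (mul_mem m2 m3) j.val), by simp [el]⟩
    have h8 := card_dvd_of_le hle
    rw [c.card, card_DO, card_map_of_injective L.subtype_injective] at h8
    rw [← K.card_mul_index, hK]
    exact Nat.mul_dvd_mul_right h8 2
  have sym : ∀ n : ℕ, (L ≃* Equiv.Perm (Fin (n + 2))) → 16 ∣ (n + 2).factorial := fun n e => by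
    have := idx ((alternatingGroup (Fin (n + 2))).comap e.toMonoidHom) (by
      rw [index_comap_of_surjective _ e.surjective, alternatingGroup.index_eq_two])
    rwa [Nat.card_congr e.toEquiv, Nat.card_perm, Nat.card_fin] at this
  rcases S3035.result (el z1 hz) oz ⟨eD⟩ with h | ⟨⟨e⟩⟩ | ⟨⟨e⟩⟩ | ⟨⟨e⟩⟩ | ⟨⟨e⟩⟩
  · have hN : (oddCore L).Normal := inferInstance
    have hp : IsPGroup 2 (centralizer ({el z1 hz} : Set L)) :=
      IsPGroup.of_card (n := 3) (by rw [Nat.card_congr eD.toEquiv, DihedralGroup.nat_card]; rfl)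
    have m1 : el r1 hρ ∈ oddCore L :=
      res_le_of_le_sup (p := 2) (L := ⊤) (norm_normal _ _) hp (by rw [sup_comm, h])
        (mem_res (mem_top _) (Nat.Coprime.coprime_dvd_left (orderOf_dvd_of_pow_eq_one
          (n := 3) (Subtype.ext (by
            simp only [el, SubmonoidClass.mk_pow, OneMemClass.coe_one]
            rw [← map_pow, show r1 ^ 3 = 1 by decide +kernel, map_one]))) (by norm_num)))
    have m2 := mul_mem (hN.conj_mem _ m1 (el v1 hv)) (inv_mem m1)
    rw [show el v1 hv * el r1 hρ * (el v1 hv)⁻¹ * (el r1 hρ)⁻¹ = el v1 hv * el z1 hz from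
      Subtype.ext (by
        show ψ v1 * ψ r1 * (ψ v1)⁻¹ * (ψ r1)⁻¹ = ψ v1 * ψ z1
        simp only [← map_inv, ← map_mul]
        rw [show v1 * r1 * v1⁻¹ * r1⁻¹ = v1 * z1 by decide +kernel])] at m2
    have o2 : orderOf (el v1 hv * el z1 hz) = 2 := orderOf_eq_prime
      (Subtype.ext (by
        show (ψ v1 * ψ z1) ^ 2 = 1
        rw [← map_mul, ← map_pow, show (v1 * z1) ^ 2 = 1 by decide +kernel, map_one]))
      fun h => absurd (c.inj (((map_mul ψ _ _).trans (congrArg Subtype.val h)).trans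
        (map_one ψ).symm)) (by decide +kernel)
    have := orderOf_dvd_natCard (⟨_, m2⟩ : oddCore L)
    rw [orderOf_mk, o2] at this
    exact (Nat.Prime.coprime_iff_not_dvd Nat.prime_two).1 (coprime_card_pPrimeCore 2).symm this
  · exact absurd (sym 2 e) (by decide)
  · exact absurd (sym 3 e) (by decide)
  · have := Cl.psl_fin_isSimpleGroup (F := ZMod 2) (n := 3) (by norm_num) (by norm_num)
    have : IsSimpleGroup (Matrix.SpecialLinearGroup (Fin 3) (ZMod 2)) :=
      (Cl.centerQuotEquivOfEqBot (Cl.center_sl_eq_bot_of_card_two (by simp))).symm.isSimpleGroup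
    have : IsSimpleGroup L := e.isSimpleGroup
    have hn : ψ s2 ∈ 𝐍[L] := mem_norm_of_cj_le (cj_le_iff.2 fun x hx => by
      obtain ⟨a, b, d⟩ := (mL x).1 hx
      have tr : ∀ p : W, Commute x (ψ (s2⁻¹ * p * s2)) →
          ψ s2 * x * (ψ s2)⁻¹ * ψ p = ψ p * (ψ s2 * x * (ψ s2)⁻¹) := fun p h => by
        have := h.eq
        simp only [map_mul, map_inv] at this
        calc ψ s2 * x * (ψ s2)⁻¹ * ψ p = ψ s2 * (x * ((ψ s2)⁻¹ * ψ p * ψ s2)) * (ψ s2)⁻¹ := by group
          _ = _ := by rw [this]; group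
      refine (mL _).2 ⟨tr _ ?_, tr _ ?_, tr _ ?_⟩
      · rw [show s2⁻¹ * r2 * s2 = r2⁻¹ by decide +kernel, map_inv]; exact Commute.inv_right a
      · rw [show s2⁻¹ * z2 * s2 = z2 by decide +kernel]; exact b
      · rw [show s2⁻¹ * v2 * s2 = v2 * z2 by decide +kernel, map_mul]; exact Commute.mul_right d b)
    have hle : (pr F O).map ψ ≤ L := by rintro _ ⟨x, hx, rfl⟩; exact hF x hx
    have key := aut168 (L := L) (by rw [Nat.card_congr e.toEquiv, Cl.card_sl_three]; simp)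
      (L.normalizerMonoidHom ⟨_, hn⟩) (fun x => Subtype.ext (by
        show ψ s2 * (ψ s2 * x * (ψ s2)⁻¹) * (ψ s2)⁻¹ = x
        calc _ = ψ (s2 * s2) * x * (ψ (s2 * s2))⁻¹ := by rw [map_mul]; group
          _ = x := by rw [show s2 * s2 = 1 by decide +kernel]; simp))
      (K := ((pr F O).map ψ).subgroupOf L)
      (by rw [Nat.card_congr (subgroupOfEquivOfLe hle).toEquiv, c.card, card_FO])
      (by
        rintro ⟨_, _⟩ ⟨x, hx, rfl⟩
        refine Subtype.ext ?_
        show ψ s2 * ψ x * (ψ s2)⁻¹ = ψ x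
        rw [← c.cm.2 (G9 x hx).2.2.2]; group) ⟨y, hy⟩
    have e2 : ψ s2 * y * (ψ s2)⁻¹ = y := congrArg Subtype.val key
    have y5 : Cj ψ y s2 s2 := by
      unfold Cj
      rw [mul_inv_eq_iff_eq_mul] at e2 ⊢
      exact e2.symm
    have := (y1.mul y5).conj
    rw [show s1 * s2 = ss by decide +kernel] at this
    exact c.nc hss ((ctp (by decide +kernel) (by decide +kernel) (by decide +kernel)).trans hsz) this
  · obtain ⟨a, b, a3, b3, ab, hi⟩ := a6_el
    have hLN : L ≤ 𝐍[(pr O V).map ψ] := fun x hx => cent_le_norm _ (mem_cent.2 (by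
      rintro _ ⟨p, hp, rfl⟩
      obtain ⟨-, b, d⟩ := (mL x).1 hx
      have : ∀ p ∈ pr O V, ∃ j k : Fin 2, p = z2 ^ j.val * v2 ^ k.val := by
        simp only [fa_pr]; decide +kernel
      obtain ⟨j, k, rfl⟩ := this p hp
      simp only [map_mul, map_pow]
      exact ((Commute.pow_right b _).mul_right (Commute.pow_right d _)).symm.eq))
    have hrN : ψ r2 ∈ 𝐍[(pr O V).map ψ] := mem_norm_of_cj_le (cj_le_iff.2 (by
      rintro _ ⟨p, hp, rfl⟩
      exact ⟨_, G12 p hp, by simp⟩))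
    have p3 : ∀ a : alternatingGroup (Fin 6), a ^ 3 = 1 → ((e.symm a : L) : G) ^ 3 = 1 :=
      fun a h => by rw [← Subgroup.coe_pow, ← map_pow, h]; simp
    refine no27 hr (hLN (e.symm a).2) (hLN (e.symm b).2) hrN (p3 a a3) (p3 b b3)
      (by rw [← map_pow, show r2 ^ 3 = 1 by decide +kernel, map_one])
      (by
        have : e.symm a * e.symm b = e.symm b * e.symm a := by rw [← map_mul, ab, map_mul]
        exact congrArg Subtype.val this)
      ((mL _).1 (e.symm a).2).1 ((mL _).1 (e.symm b).2).1 ?_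
    rintro ⟨i, j, k⟩ ⟨i', j', k'⟩ h
    simp only at h
    have m : ψ (r2 ^ k.val * (r2 ^ k'.val)⁻¹) ∈ L := by
      have : ψ (r2 ^ k.val * (r2 ^ k'.val)⁻¹) = ((e.symm a : G) ^ i.val * (e.symm b : G) ^ j.val)⁻¹ *
          ((e.symm a : G) ^ i'.val * (e.symm b : G) ^ j'.val) := by
        rw [map_mul, map_inv, map_pow, map_pow, eq_inv_mul_iff_mul_eq, ← mul_assoc, h]; group
      rw [this]
      exact mul_mem (inv_mem (mul_mem (pow_mem (e.symm a).2 _) (pow_mem (e.symm b).2 _)))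
        (mul_mem (pow_mem (e.symm a).2 _) (pow_mem (e.symm b).2 _))
    have hk : k = k' := by
      have : ∀ k k' : Fin 3, r2 ^ k.val * (r2 ^ k'.val)⁻¹ * v2 = v2 * (r2 ^ k.val * (r2 ^ k'.val)⁻¹) →
        k = k' := by decide +kernel
      exact this k k' (c.cm.1 ((mL _).1 m).2.2)
    subst hk
    have h2 : e.symm (a ^ i.val * b ^ j.val) = e.symm (a ^ i'.val * b ^ j'.val) :=
      Subtype.ext (by simpa using mul_right_cancel h)
    have := hi (a₁ := (i, j)) (a₂ := (i', j')) (e.symm.injective h2)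
    simp only [Prod.mk.injEq] at this
    rw [this.1, this.2]

theorem main (hch : IsOfCharacteristicTwo (centralizer ({ψ zz} : Set G)))
    (hr : PRankLE 3 2 𝐍[(pr O V).map ψ]) : False := by
  obtain ⟨g, hB, hC, hs⟩ : ∃ g, cj(g, B.map ψ) = B.map ψ ∧ cj(g, C.map ψ) = C.map ψ ∧
      g * ψ s1 * g⁻¹ ∈ Tm.map ψ := by
    obtain ⟨g, h1, h2⟩ := c.thompson relIndex_Tm (y := ψ s1)
      (by rw [← map_mul, show s1 * s1 = 1 by decide +kernel, map_one]) (pg R_le) (cent_map R_comm)
    obtain ⟨p, hp⟩ := c.e16G ((cj_mono g (map_mono B_le_R)).trans h2)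
    obtain rfl := c.wc hp
    obtain ⟨q, hq⟩ := c.e16G ((cj_mono g (map_mono C_le_R)).trans h2)
    have hq' : cj(g⁻¹, (E q).map ψ) = C.map ψ := by rw [← hq, cj_inv_cj]
    obtain ⟨i, j⟩ := q
    cases i <;> cases j
    · exact absurd (c.wc hq') (by decide)
    · exact ⟨g, hp, hq, h1⟩
    · have ht : t ∈ TT := by decide +kernel
      refine ⟨ψ t * g, ?_, ?_, ?_⟩
      · rw [← cj_cj, hp, cj_of_norm (norm_map (norm_E false) (mem_map_of_mem _ ht))]
      · rw [← cj_cj, hq]
        refine eq_of_le_of_card_ge (cj_le_iff.2 ?_) (by rw [card_cj, c.card, c.card, card_E, card_E])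
        rintro _ ⟨x, hx, rfl⟩
        exact ⟨_, t_C x hx, by simp⟩
      · obtain ⟨x, hx, e⟩ := h1
        exact ⟨_, t_Tm x hx, (Cj.post e.symm t).symm⟩
    · exact absurd (c.wc hq') (by decide)
  have bc : ∀ x ∈ B, x ∈ C → ∃ y ∈ B, y ∈ C ∧ Cj ψ g x y := fun x h1 h2 => by
    obtain ⟨y, hy, e⟩ := Cj.of_le hB.le h1
    obtain ⟨y', hy', e'⟩ := Cj.of_le hC.le h2
    exact ⟨y, hy, e'.eq c.inj e ▸ hy', e⟩
  obtain ⟨s', sB, sC, cs⟩ := bc s1 (by decide +kernel) (by decide +kernel)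
  obtain ⟨x, xB, xC, cx⟩ := bc z1 (by decide +kernel) (by decide +kernel)
  obtain ⟨b, hb, cb⟩ := Cj.of_le hB.le (x := s2) (by decide +kernel)
  obtain ⟨d, hd, cd⟩ := Cj.of_le hC.le (x := v2) (by decide +kernel)
  have cz := (cb.mul cd).mul (cb.mul cd)
  rw [show s2 * v2 * (s2 * v2) = z2 by decide +kernel] at cz
  have ebd : b * d * (b * d) = z2 := (G1 b hb d hd).resolve_left fun h =>
    cz.ne c.inj Cj.one h (by decide +kernel)
  rw [ebd] at cz
  have sT : s' ∈ Tm := c.mem.1 (cs ▸ hs)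
  have tE : ∀ {p} {x y : W}, x ∈ E p → tp x = y → IsConj (ψ x) (ψ y) := fun h e =>
    ctp (E_le _ h) (E_sq _ _ h) e
  have cv2 : IsConj (ψ v2) (ψ z1) := ctp (by decide +kernel) (by decide +kernel) (by decide +kernel)
  have cd1 : IsConj (ψ d) (ψ z1) := cd.conj.symm.trans cv2
  have cx1 : IsConj (ψ x) (ψ z1) := cx.conj.symm
  obtain ⟨g4, g4'⟩ := G4 b hb d hd ebd
  have hx : (tp x = s1 ∧ (x = s1 ∨ x = s1 * z1)) ∨ tp x = sz ∨ x = z1 := by
    rcases G3 x xB xC with h | h | h | h | h | h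
    · exact (cx.ne c.inj Cj.one h (by decide +kernel)).elim
    · exact (cx.ne c.inj cz h (by decide +kernel)).elim
    · exact Or.inr (Or.inr h)
    · exact (c.nc cx1 (IsConj.refl _) (h ▸ IsConj.refl _)).elim
    · exact Or.inl h
    · exact Or.inr (Or.inl h)
  rcases G2 s' sB sC sT with h | h | rfl | rfl
  · exact cs.ne c.inj Cj.one h (by decide +kernel)
  · exact cs.ne c.inj cz h (by decide +kernel)
  · have h1 : IsConj (ψ s1) (ψ z1) := cs.conj
    have h2 : IsConj (ψ sz) (ψ zz) := by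
      have := (cs.mul cz).conj
      rwa [show s1 * z2 = sz by decide +kernel, show z1 * z2 = zz by decide +kernel] at this
    have cb1 : IsConj (ψ b) (ψ z1) := cb.conj.symm.trans
      ((ctp (by decide +kernel) (by decide +kernel) (by decide +kernel)).trans h1)
    rcases hx with ⟨-, hx⟩ | hx | hx
    · rcases g4' with ⟨-, h⟩ | h | h
      · refine c.tcase h1 h2 ?_
        have := (cs.mul cb).conj
        rw [show s1 * s2 = ss by decide +kernel] at this
        exact this.trans ((tE (mul_mem (show z1 ∈ B by decide +kernel) hb) h).trans h2)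
      · exact c.nc cb1 h2 (tE hb h)
      · have h3 : IsConj (ψ ss) (ψ z1) := (tE hb h).symm.trans cb1
        rcases g4 with rfl | rfl | h | ⟨h, -⟩
        · exact c.final hch hr cs cx hx cz cd h3 h2
        · refine c.final hch hr (g := ψ s2 * g) (u := x) ?_ ?_ hx ?_ ?_ h3 h2
          · have := cs.post s2; rwa [show s2 * z1 * s2⁻¹ = z1 by decide +kernel] at this
          · have := cx.post s2
            rwa [show s2 * x * s2⁻¹ = x by rcases hx with rfl | rfl <;> decide +kernel] at this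
          · have := cz.post s2; rwa [show s2 * z2 * s2⁻¹ = z2 by decide +kernel] at this
          · have := cd.post s2; rwa [show s2 * (v2 * z2) * s2⁻¹ = v2 by decide +kernel] at this
        · exact c.nc cd1 (IsConj.refl _) (tE hd h)
        · exact c.nc cd1 h2 (tE hd h)
    · exact c.nc cx1 h2 (tE xB hx)
    · exact absurd (cx.inj c.inj (hx ▸ cs)) (by decide +kernel)
  · have h1 : IsConj (ψ s1) (ψ zz) := cs.conj
    have czv : IsConj (ψ (z1 * v2)) (ψ zz) :=
      ctp (by decide +kernel) (by decide +kernel) (by decide +kernel)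
    rcases hx with ⟨hx, -⟩ | hx | rfl
    · exact c.nc cx1 h1 (tE xB hx)
    · have h2 : IsConj (ψ sz) (ψ z1) := (tE xB hx).symm.trans cx1
      obtain ⟨a1, a2, a3⟩ := G5 x xB xC hx
      rcases g4 with rfl | rfl | h | ⟨h, -⟩
      · exact c.nc h2 czv ((cx.mul cd).conj.trans (tE (mul_mem xC hd) a1)).symm
      · exact c.nc h2 czv ((cx.mul cd).conj.trans (tE (mul_mem xC hd) a2)).symm
      · exact c.nc cd1 (IsConj.refl _) (tE hd h)
      · obtain ⟨w, hw, ew⟩ := a3 d hd h
        have nC := norm_map (ψ := ψ) norm_C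
        have gN := cj_eq_iff.1 hC
        refine c.burnC (n := ψ r2 * (g⁻¹ * (ψ w * g))) (mul_mem (nC (mem_map_of_mem _
          (by decide +kernel))) (mul_mem (inv_mem gN) (mul_mem (nC (mem_map_of_mem _ hw)) gN))) ?_
        have e1 := cx.post w
        rw [ew] at e1
        unfold Cj at e1 cd
        calc _ = ψ r2 * (g⁻¹ * (ψ w * g * ψ z1 * (ψ w * g)⁻¹) * g) * (ψ r2)⁻¹ := by group
          _ = ψ (r2 * v2 * r2⁻¹) := by rw [e1, ← cd]; simp [mul_assoc]
          _ = _ := by rw [show r2 * v2 * r2⁻¹ = z2 by decide +kernel]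
    · have := cx.mul cz
      rw [show z1 * z2 = zz by decide +kernel] at this
      exact absurd (this.inj c.inj cs) (by decide +kernel)

end Ctx

end Cfsg.Agent.QT.Wr
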